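import Cfsg.Agent.Lib.Fischer.Graph.Core
import Cfsg.Agent.Lib.ThreeTransp.Ortho3

/-!
Fischer's theorem: the model of the reflection groups over three elements, modulo the centre.
-/

set_option autoImplicit false
set_option linter.unusedSectionVars false

namespace Cfsg.Agent.Fischer.OThreeModel

open Matrix Cfsg.Agent.Forms Cfsg.Agent.Forms.QuadStd Cfsg.Agent.Forms.Reflections
  Cfsg.Agent.Forms.Spinor
open Cfsg.Agent.ThreeTransp

variable {n : ℕ} {Q : QuadraticForm (ZMod 3) (Fin n → ZMod 3)}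

set_option quotPrecheck false
local notation "V" => (Fin n → ZMod 3)
local notation "Bp" => QuadraticMap.polar (⇑Q)
local notation "Refl" => Cfsg.reflectionSubgroup (⇑Q) (1 : ZMod 3)

theorem three_cases : ∀ x : ZMod 3, x = 0 ∨ x = 1 ∨ x = -1 := by decide

theorem act_r {v : V} (hv : Q v = 1) (x : V) : act (reflect Q v) x = x - Bp v x • v := by
  rw [act_reflect, hv, inv_one, one_mul]

theorem ne_zero {v : V} (hv : Q v = 1) : v ≠ 0 := fun h => by
  rw [h, QuadraticMap.map_zero] at hv; exact zero_ne_one hv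

theorem self_two {v : V} (hv : Q v = 1) : Bp v v = -1 := by
  rw [QuadraticMap.polar_self, hv, nsmul_eq_mul]; decide

/-- The representative of a point. -/
noncomputable def rep (s : O3P Q) : V := s.2.choose

theorem Q_rep (s : O3P Q) : Q (rep s) = 1 := s.2.choose_spec.1

theorem set_rep (s : O3P Q) : s.1 = {rep s, -rep s} := s.2.choose_spec.2

/-- The point of a vector of value one. -/
def pt {v : V} (hv : Q v = 1) : O3P Q := ⟨{v, -v}, v, hv, rfl⟩

theorem pt_eq {v : V} (hv : Q v = 1) {s : O3P Q} (h : v = rep s ∨ v = -rep s) : pt hv = s := by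
  refine Subtype.ext ?_
  show ({v, -v} : Set V) = s.1
  rw [set_rep s]
  rcases h with rfl | rfl
  · rfl
  · rw [neg_neg, Set.pair_comm]

theorem rep_pt {v : V} (hv : Q v = 1) : rep (pt hv) = v ∨ rep (pt hv) = -v := by
  have h : rep (pt hv) ∈ (pt hv).1 := by rw [set_rep]; exact Set.mem_insert _ _
  simpa [pt] using h

theorem R_iff (s t : O3P Q) : o3R Q s t ↔ s = t ∨ Bp (rep s) (rep t) = 0 := by
  refine or_congr Iff.rfl ⟨fun h => h _ ?_ _ ?_, fun h v hv w hw => ?_⟩
  · rw [set_rep]; exact Set.mem_insert _ _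
  · rw [set_rep]; exact Set.mem_insert _ _
  · rw [set_rep, Set.mem_insert_iff, Set.mem_singleton_iff] at hv hw
    rcases hv with rfl | rfl <;> rcases hw with rfl | rfl <;>
      simp [QuadraticMap.polar_neg_left, QuadraticMap.polar_neg_right, h]

/-- The reflection at a point. -/
noncomputable def sig (s : O3P Q) : Refl := ⟨reflect Q (rep s), Ortho3.reflect_mem (Q_rep s)⟩

theorem sig_pt {v : V} (hv : Q v = 1) :
    (sig (pt hv) : Cfsg.isometryGroup (ZMod 3) (⇑Q)) = reflect Q v := by
  show reflect Q (rep (pt hv)) = _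
  rcases rep_pt hv with h | h <;> rw [h]
  rw [← neg_one_smul (ZMod 3) v, reflect_smul _ (by decide)]

theorem range_sig : Set.range (sig (Q := Q)) =
    {g : Refl | (g : Cfsg.isometryGroup (ZMod 3) (⇑Q)) ∈ Cfsg.reflectionsOfNorm (⇑Q) 1} := by
  ext g
  constructor
  · rintro ⟨s, rfl⟩
    exact Ortho3.mem_norm.2 ⟨rep s, Q_rep s, rfl⟩
  · intro hg
    obtain ⟨v, hv, e⟩ := Ortho3.mem_norm.1 hg
    exact ⟨pt hv, Subtype.ext ((sig_pt hv).trans e.symm)⟩

theorem sig_inj : Function.Injective (sig (Q := Q)) := fun s t h => by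
  have hs := Q_rep s
  have ht := Q_rep t
  have e : reflect Q (rep s) = reflect Q (rep t) := congrArg Subtype.val h
  have e1 := congrArg (fun g : Cfsg.isometryGroup (ZMod 3) (⇑Q) => act g (rep s)) e
  simp only [act_r hs, act_r ht, self_two hs] at e1
  obtain ⟨b, hb⟩ : ∃ b, b = Bp (rep t) (rep s) := ⟨_, rfl⟩
  rw [← hb] at e1
  have e2 : rep s = -(b • rep t) := by linear_combination (norm := module) e1
  have hb2 : b ≠ 0 := fun h0 => ne_zero hs (by rw [e2, h0, zero_smul, neg_zero])
  rw [← pt_eq hs (Or.inl rfl : rep s = rep s ∨ rep s = -rep s)]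
  refine pt_eq hs ?_
  rcases (three_cases b).resolve_left hb2 with h1 | h1 <;> rw [e2, h1]
  · exact Or.inr (by rw [one_smul])
  · exact Or.inl (by rw [neg_one_smul, neg_neg])

theorem conj_sig (s t : O3P Q) :
    ∃ w : O3P Q, sig w = sig s * sig t * (sig s)⁻¹ ∧
      w = pt (show Q (act (reflect Q (rep s)) (rep t)) = 1 by rw [act_map, Q_rep]) := by
  refine ⟨_, Subtype.ext ?_, rfl⟩
  rw [sig_pt, ← reflect_conj]
  rfl

theorem comm_iff (s t : O3P Q) : Commute (sig s) (sig t) ↔ o3R Q s t := by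
  obtain ⟨w, e, hw⟩ := conj_sig s t
  rw [R_iff]
  constructor
  · intro h
    rw [h.eq, mul_inv_cancel_right] at e
    have hwt : w = t := sig_inj e
    obtain ⟨b, hb⟩ : ∃ b, b = Bp (rep s) (rep t) := ⟨_, rfl⟩
    rw [← hb]
    have := rep_pt (show Q (act (reflect Q (rep s)) (rep t)) = 1 by rw [act_map, Q_rep])
    rw [← hw, hwt, act_r (Q_rep s), ← hb] at this
    rcases this with h1 | h1
    · have h2 : b • rep s = 0 := by linear_combination (norm := module) h1
      exact Or.inr ((smul_eq_zero.1 h2).resolve_right (ne_zero (Q_rep s)))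
    · have h2 : b • rep s = (2 : ZMod 3) • rep t := by linear_combination (norm := module) -h1
      rw [show (2 : ZMod 3) = -1 from by decide, neg_one_smul] at h2
      rcases three_cases b with h0 | h0 | h0
      · exact Or.inr h0
      · refine Or.inl ((pt_eq (Q_rep s) (Or.inl rfl)).symm.trans (pt_eq (Q_rep s) (Or.inr ?_)))
        rwa [h0, one_smul] at h2
      · refine Or.inl ((pt_eq (Q_rep s) (Or.inl rfl)).symm.trans (pt_eq (Q_rep s) (Or.inl ?_)))
        rw [h0, neg_one_smul, neg_inj] at h2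
        exact h2
  · rintro (rfl | h)
    · exact Commute.refl _
    · refine mul_inv_eq_iff_eq_mul.1 (e.symm.trans (congrArg sig ?_))
      rw [hw]
      exact pt_eq _ (Or.inl (by rw [act_r (Q_rep s), h, zero_smul, sub_zero]))

variable (hn : 5 ≤ n) (hQ : (QuadraticMap.polarBilin Q).Nondegenerate)
include hn hQ

theorem grp : Cfsg.IsThreeTranspositionGroup (Set.range (sig (Q := Q))) := by
  rw [range_sig]
  exact (Classes.of_class (Ortho3.three_class hn hQ one_ne_zero)).1

theorem prim : Cfsg.IsPrimitiveUnderConj (Set.range (sig (Q := Q))) := by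
  rw [range_sig]
  exact (Ortho3.structure_and_primitive hn hQ one_ne_zero).2

theorem not_central (s : O3P Q) : sig s ∉ Subgroup.center Refl := fun h => by
  obtain ⟨p, hp, q, hq, hpq⟩ := (prim hn hQ).2.1
  have hone : ∀ x ∈ Set.range (sig (Q := Q)), x = sig s := fun x hx => by
    obtain ⟨g, rfl⟩ := (prim hn hQ).1 (sig s) ⟨s, rfl⟩ x hx
    rw [Subgroup.mem_center_iff.1 h g, mul_inv_cancel_right]
  exact hpq ((hone p hp).trans (hone q hq).symm)

theorem hull : HullP (o3R Q) (sig (Q := Q)) := by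
  intro s t w hst hsw htw hw
  rw [R_iff] at hst hsw htw
  push Not at hst hsw htw
  obtain ⟨u, hu⟩ : ∃ u, u = rep s := ⟨_, rfl⟩
  obtain ⟨v, hv, hvt⟩ : ∃ v, Bp u v = 1 ∧ (v = rep t ∨ v = -rep t) := by
    rcases (three_cases (Bp u (rep t))).resolve_left (hu ▸ hst.2) with h | h
    · exact ⟨rep t, h, Or.inl rfl⟩
    · exact ⟨-rep t, by rw [QuadraticMap.polar_neg_right, h, neg_neg], Or.inr rfl⟩
  have hQu : Q u = 1 := hu ▸ Q_rep s
  have hQv : Q v = 1 := by rcases hvt with rfl | rfl <;> simp [Q_rep]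
  obtain ⟨x, hxdef⟩ : ∃ x, x = rep w := ⟨_, rfl⟩
  have hQx : Q x = 1 := hxdef ▸ Q_rep w
  have hBuu : Bp u u = -1 := self_two hQu
  have hBvv : Bp v v = -1 := self_two hQv
  have hvu : Bp v u = 1 := by rw [QuadraticMap.polar_comm]; exact hv
  have hvzero : ∀ z : V, Bp (rep t) z = 0 ↔ Bp v z = 0 := fun z => by
    rcases hvt with rfl | rfl <;> simp [QuadraticMap.polar_neg_left]
  have hux : Bp u x ≠ 0 := by rw [hu, hxdef]; exact hsw.2
  -- what is orthogonal to `u`, `v` and has value one is orthogonal to `x`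
  have hone : ∀ z : V, Q z = 1 → Bp u z = 0 → Bp v z = 0 → Bp x z = 0 := by
    intro z hz h1 h2
    have k := hw (pt hz) ((R_iff _ _).2 (Or.inr ?_)) ((R_iff _ _).2 (Or.inr ?_))
    · rw [R_iff] at k
      rcases k with k | k
      · exfalso
        rcases rep_pt hz with e | e <;>
          rw [← k, ← hxdef] at e <;> subst e <;>
          simp [QuadraticMap.polar_neg_right] at hux <;> exact hux h1
      · rw [← hxdef] at k
        rcases rep_pt hz with e | e <;> rw [e] at k
        · exact k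
        · rwa [QuadraticMap.polar_neg_right, neg_eq_zero] at k
    · rw [← hu]
      rcases rep_pt hz with e | e <;> rw [e] <;> simp [QuadraticMap.polar_neg_right, h1]
    · rw [hvzero]
      rcases rep_pt hz with e | e <;> rw [e] <;> simp [QuadraticMap.polar_neg_right, h2]
  obtain ⟨r, hr⟩ : ∃ r, r = u + v := ⟨_, rfl⟩
  have hur : Bp u r = 0 := by rw [hr, QuadraticMap.polar_add_right, hBuu, hv]; decide
  have hvr : Bp v r = 0 := by rw [hr, QuadraticMap.polar_add_right, hBvv, hvu]; decide
  have hQr : Q r = 0 := by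
    rw [hr, QuadraticMap.map_add (Q : QuadraticMap _ _ _), hQu, hQv, hv]; decide
  obtain ⟨W, hW⟩ : ∃ W, W = (polB Q).orthogonal (Submodule.span (ZMod 3) {u, v}) := ⟨_, rfl⟩
  have hmem : ∀ z, z ∈ W ↔ Bp u z = 0 ∧ Bp v z = 0 := fun z => by
    rw [hW, mem_orth]
    refine ⟨fun h => ⟨h _ (Submodule.subset_span (Set.mem_insert _ _)),
      h _ (Submodule.subset_span (Set.mem_insert_of_mem _ rfl))⟩, fun h a ha => ?_⟩
    rw [Submodule.mem_span_pair] at ha
    obtain ⟨p, q, rfl⟩ := ha
    rw [← QuadraticMap.polarBilin_apply_apply]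
    simp [h.1, h.2]
  have hind : LinearIndependent (ZMod 3) ![u, v] := by
    rw [LinearIndependent.pair_iff' (ne_zero hQu)]
    intro a ha
    have h1 : Bp u v = a * Bp u u := by rw [← ha, QuadraticMap.polar_smul_right, smul_eq_mul]
    have h2 : Q v = a * a * Q u := by rw [← ha, QuadraticMap.map_smul, smul_eq_mul]
    rw [hv, hBuu] at h1
    rw [hQv, hQu, mul_one] at h2
    have hsame : rep t = u ∨ rep t = -u := by
      rcases (three_cases a).resolve_left (fun h0 => by simp [h0] at h1) with h0 | h0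
      · subst h0; rw [one_smul] at ha
        rcases hvt with e | e <;> subst e
        · exact Or.inl ha.symm
        · exact Or.inr (by rw [ha, neg_neg])
      · subst h0; rw [neg_one_smul] at ha
        rcases hvt with e | e <;> subst e
        · exact Or.inr ha.symm
        · exact Or.inl (neg_inj.1 ha.symm)
    refine hst.1 ((pt_eq (Q_rep t) (Or.inl rfl)).symm.trans (pt_eq (Q_rep t) ?_)).symm
    rw [← hu]; exact hsame
  have hWd : Module.finrank (ZMod 3) W = n - 2 := by
    rw [hW, finrank_orth hQ, Fintype.card_fin, show ({u, v} : Set V) = Set.range ![u, v] by simp [Set.pair_comm],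
      finrank_span_eq_card hind, Fintype.card_fin]
  -- some member of `W` has value one
  have hsing : ∀ y ∈ W, Q y = 0 → (∃ z ∈ W, Bp y z ≠ 0) → ∃ e ∈ W, Q e = 1 ∧ Bp y e ≠ 0 := by
    rintro y hy hy0 ⟨z, hz, hyz⟩
    refine ⟨z + ((1 - Q z) * (Bp y z)⁻¹) • y, add_mem hz (W.smul_mem _ hy), ?_, ?_⟩
    · rw [QuadraticMap.map_add (Q : QuadraticMap _ _ _), QuadraticMap.map_smul, hy0, smul_zero,
        QuadraticMap.polar_smul_right, smul_eq_mul, QuadraticMap.polar_comm (⇑Q) z y]
      field_simp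
      ring
    · rw [QuadraticMap.polar_add_right, QuadraticMap.polar_smul_right, QuadraticMap.polar_self, hy0]
      simpa using hyz
  -- the radical of `W` is spanned by `r`
  have hrad : ∀ y ∈ W, (∀ z ∈ W, Bp y z = 0) → ∃ a : ZMod 3, y = a • r := by
    intro y hy hall
    have h2 : y ∈ (polB Q).orthogonal W := mem_orth.2 fun z hz => by
      rw [QuadraticMap.polar_comm]; exact hall z hz
    rw [hW, LinearMap.BilinForm.orthogonal_orthogonal (by exact hQ) (fun a b h => by
      rw [polB_apply, QuadraticMap.polar_comm]; exact h), Submodule.mem_span_pair] at h2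
    obtain ⟨p, q, rfl⟩ := h2
    refine ⟨p, ?_⟩
    have h3 := ((hmem _).1 hy).1
    rw [QuadraticMap.polar_add_right, QuadraticMap.polar_smul_right, QuadraticMap.polar_smul_right,
      hBuu, hv, smul_eq_mul, smul_eq_mul] at h3
    have hpq : q = p := (by decide : ∀ a b : ZMod 3, a * -1 + b * 1 = 0 → b = a) p q h3
    rw [hpq, hr, smul_add]
  obtain ⟨e₁, he₁, hQe₁⟩ : ∃ e ∈ W, Q e = 1 := by
    by_contra! hno
    obtain ⟨y, hy, hy'⟩ : ∃ y ∈ W, y ∉ Submodule.span (ZMod 3) {r} := by
      by_contra! hc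
      have := Submodule.finrank_mono (show W ≤ Submodule.span (ZMod 3) {r} from hc)
      have := finrank_span_le_card (R := ZMod 3) ({r} : Set V)
      simp only [Set.toFinset_singleton, Finset.card_singleton] at this
      omega
    obtain ⟨z, hz, hyz⟩ : ∃ z ∈ W, Bp y z ≠ 0 := by
      by_contra! hc
      obtain ⟨a, ha⟩ := hrad y hy hc
      exact hy' (Submodule.mem_span_singleton.2 ⟨a, ha.symm⟩)
    rcases three_cases (Q y) with h | h | h
    · obtain ⟨e, he, he1, -⟩ := hsing y hy h ⟨z, hz, hyz⟩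
      exact hno e he he1
    · exact hno y hy h
    · obtain ⟨K, hK⟩ : ∃ K, K = W ⊓ (polB Q).orthogonal (Submodule.span (ZMod 3) {y}) := ⟨_, rfl⟩
      obtain ⟨z', hz'K, hz'r⟩ : ∃ z ∈ K, z ∉ Submodule.span (ZMod 3) {r} := by
        by_contra! hc
        have h1 := Submodule.finrank_mono (show K ≤ Submodule.span (ZMod 3) {r} from hc)
        have h2 := finrank_span_le_card (R := ZMod 3) ({r} : Set V)
        simp only [Set.toFinset_singleton, Finset.card_singleton] at h2
        have h3 := Submodule.finrank_sup_add_finrank_inf_eq W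
          ((polB Q).orthogonal (Submodule.span (ZMod 3) {y}))
        have h4 := Submodule.finrank_le (W ⊔ (polB Q).orthogonal (Submodule.span (ZMod 3) {y}))
        have h5 := finrank_span_le_card (R := ZMod 3) ({y} : Set V)
        simp only [Set.toFinset_singleton, Finset.card_singleton] at h5
        rw [← hK, hWd, finrank_orth hQ, Fintype.card_fin] at h3
        rw [Module.finrank_pi, Fintype.card_fin] at h4
        omega
      rw [hK, Submodule.mem_inf, mem_orth] at hz'K
      have hyz' := hz'K.2 y (Submodule.mem_span_singleton_self y)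
      rcases three_cases (Q z') with h' | h' | h'
      · obtain ⟨e, he, he1, -⟩ := hsing z' hz'K.1 h' (by
          by_contra! hc
          obtain ⟨a, ha⟩ := hrad z' hz'K.1 hc
          exact hz'r (Submodule.mem_span_singleton.2 ⟨a, ha.symm⟩))
        exact hno e he he1
      · exact hno z' hz'K.1 h'
      · refine hno (y + z') (add_mem hy hz'K.1) ?_
        rw [QuadraticMap.map_add (Q : QuadraticMap _ _ _), hyz', h, h']
        decide
  obtain ⟨hue, hve⟩ := (hmem e₁).1 he₁
  have hrW : r ∈ W := (hmem r).2 ⟨hur, hvr⟩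
  have hre : Bp r e₁ = 0 := by rw [hr, QuadraticMap.polar_add_left, hue, hve, add_zero]
  have hxr : Bp x r = 0 := by
    have h1 := hone (r + e₁) (by rw [QuadraticMap.map_add (Q : QuadraticMap _ _ _), hQr, hQe₁, hre]; rfl)
      (by rw [QuadraticMap.polar_add_right, hur, hue, add_zero])
      (by rw [QuadraticMap.polar_add_right, hvr, hve, add_zero])
    rwa [QuadraticMap.polar_add_right, hone e₁ hQe₁ hue hve, add_zero] at h1
  obtain ⟨b, hb⟩ : ∃ b, b = Bp u x := ⟨_, rfl⟩
  have hbv : Bp v x = -b := by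
    have h1 : Bp x u + Bp x v = 0 := by rw [← QuadraticMap.polar_add_right, ← hr]; exact hxr
    rw [QuadraticMap.polar_comm, eq_neg_iff_add_eq_zero, hb, QuadraticMap.polar_comm (⇑Q) u x,
      add_comm]
    exact h1
  -- the component in `W`
  obtain ⟨y, hy⟩ : ∃ y, y = x + b • u := ⟨_, rfl⟩
  have hyW : y ∈ W := (hmem y).2 ⟨by
    rw [hy, QuadraticMap.polar_add_right, QuadraticMap.polar_smul_right, ← hb, hBuu, smul_eq_mul]; ring,
    by rw [hy, QuadraticMap.polar_add_right, QuadraticMap.polar_smul_right, hbv, hvu, smul_eq_mul]; ring⟩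
  have hbb : b * b = 1 :=
    (by decide : ∀ p : ZMod 3, p ≠ 0 → p * p = 1) b (hb ▸ hux)
  have hQy : Q y = 0 := by
    rw [hy, QuadraticMap.map_add (Q : QuadraticMap _ _ _), QuadraticMap.map_smul, hQx, hQu,
      QuadraticMap.polar_smul_right, QuadraticMap.polar_comm (⇑Q) x u, ← hb, smul_eq_mul, smul_eq_mul,
      mul_one, hbb]
    decide
  have hyr : ∃ a : ZMod 3, y = a • r := by
    refine hrad y hyW fun z hz => ?_
    by_contra hyz
    obtain ⟨e, he, he1, hye⟩ := hsing y hyW hQy ⟨z, hz, hyz⟩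
    refine hye ?_
    rw [hy, QuadraticMap.polar_add_left, QuadraticMap.polar_smul_left,
      hone e he1 ((hmem e).1 he).1 ((hmem e).1 he).2, ((hmem e).1 he).1, smul_zero, add_zero]
  obtain ⟨a, ha⟩ := hyr
  obtain ⟨p, q, hxpq⟩ : ∃ p q : ZMod 3, x = p • u + q • v := ⟨a - b, a, by
    rw [eq_sub_of_add_eq hy.symm, ha, hr]; module⟩
  have hone' : p * p + q * q + p * q = 1 := by
    rw [hxpq, QuadraticMap.map_add (Q : QuadraticMap _ _ _), QuadraticMap.map_smul,
      QuadraticMap.map_smul, QuadraticMap.polar_smul_left, QuadraticMap.polar_smul_right, hQu, hQv,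
      hv] at hQx
    simpa [smul_eq_mul] using hQx
  have hp : p ≠ 0 := fun h0 => htw.2 (by
    rw [hvzero, ← hxdef, hbv, neg_eq_zero]
    exfalso
    refine htw.1 ?_
    have hq : q = 1 ∨ q = -1 := by rw [h0] at hone'; exact (by decide : ∀ a : ZMod 3, 0 * 0 + a * a + 0 * a = 1 → a = 1 ∨ a = -1) q hone'
    refine ((pt_eq hQx (Or.inl hxdef)).symm.trans (pt_eq hQx ?_)).symm
    rw [hxpq, h0, zero_smul, zero_add]
    rcases hq with h1 | h1 <;> rcases hvt with e | e <;> rw [h1, e] <;> simp)
  have hq : q ≠ 0 := fun h0 => by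
    refine hsw.1 ((pt_eq hQx (Or.inl hxdef)).symm.trans (pt_eq hQx ?_)).symm
    have hp1 : p = 1 ∨ p = -1 := by rw [h0] at hone'; exact (by decide : ∀ a : ZMod 3, a * a + 0 * 0 + a * 0 = 1 → a = 1 ∨ a = -1) p hone'
    rw [hxpq, h0, zero_smul, add_zero, ← hu]
    rcases hp1 with h1 | h1 <;> rw [h1] <;> simp
  have hqp : q = -p := (by decide : ∀ a c : ZMod 3, a ≠ 0 → c ≠ 0 → a * a + c * c + a * c = 1 → c = -a)
    p q hp hq hone'
  obtain ⟨r', e', hr'⟩ := conj_sig s t
  refine Or.inr (Or.inr ((congrArg sig ?_).trans e'))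
  rw [hr']
  refine ((pt_eq hQx (Or.inl hxdef)).symm.trans ?_)
  refine Subtype.ext ?_
  show ({x, -x} : Set V) = {act (reflect Q (rep s)) (rep t), -act (reflect Q (rep s)) (rep t)}
  have hz : act (reflect Q (rep s)) (rep t) = x ∨ act (reflect Q (rep s)) (rep t) = -x := by
    rw [act_r (Q_rep s), ← hu, hxpq, hqp]
    rcases (three_cases p).resolve_left hp with h1 | h1 <;> rcases hvt with e | e
    · right; subst e; rw [h1, hv]; module
    · left; subst e
      rw [QuadraticMap.polar_neg_right] at hv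
      rw [h1, show Bp u (rep t) = -1 by rw [← hv, neg_neg]]; module
    · left; subst e; rw [h1, hv]; module
    · right; subst e
      rw [QuadraticMap.polar_neg_right] at hv
      rw [h1, show Bp u (rep t) = -1 by rw [← hv, neg_neg]]; module
  rcases hz with h1 | h1 <;> rw [h1]
  rw [neg_neg, Set.pair_comm]

theorem model : Model (o3R Q)
    (fun s => (QuotientGroup.mk (sig s) : ↥Refl ⧸ Subgroup.center ↥Refl)) :=
  mk_model (grp hn hQ) (fun s t h => sig_inj (inj_of_prim (grp hn hQ) (prim hn hQ) ⟨s, rfl⟩ ⟨t, rfl⟩ h))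
    (not_central hn hQ) comm_iff (hull hn hQ)

end Cfsg.Agent.Fischer.OThreeModel
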