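import Cfsg.Agent.Lib.Fischer.Graph.Core
import Cfsg.Agent.Lib.Forms.Spinor
import Cfsg.Agent.Lib.Classical.RankOne

/-!
Fischer's theorem: the model of the orthogonal groups over two elements in dimension at least six.
-/

set_option autoImplicit false
set_option linter.unusedSectionVars false

namespace Cfsg.Agent.Fischer.OTwoModel

open Matrix Cfsg.Agent.Forms Cfsg.Agent.Forms.QuadStd Cfsg.Agent.Forms.Reflections
  Cfsg.Agent.Forms.Spinor

variable {ι : Type} [Fintype ι] [DecidableEq ι] {Q : QuadraticForm (ZMod 2) (ι → ZMod 2)}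

set_option quotPrecheck false
local notation "Bp" => QuadraticMap.polar (⇑Q)
local notation "Iso" => Cfsg.isometryGroup (ZMod 2) (⇑Q)

theorem two_cases : ∀ x : ZMod 2, x = 0 ∨ x = 1 := by decide

theorem scalar_add_self : ∀ x : ZMod 2, x + x = 0 := by decide

theorem vec_add_self (v : ι → ZMod 2) : v + v = 0 := funext fun i => scalar_add_self (v i)

theorem sub_eq_add' (x v : ι → ZMod 2) : x - v = x + v := by
  rw [sub_eq_add_neg, neg_eq_of_add_eq_zero_left (vec_add_self v)]

theorem act_mat (g : Iso) (x : ι → ZMod 2) :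
    ((g : GL ι (ZMod 2)) : Matrix ι ι (ZMod 2)) *ᵥ x = act g x := (act_apply g x).symm

theorem ext_act {g h : Iso} (k : ∀ x, act g x = act h x) : g = h :=
  iso_ext fun x => by rw [act_mat, act_mat, k]

theorem act_r {v : ι → ZMod 2} (hv : Q v = 1) (x : ι → ZMod 2) :
    act (reflect Q v) x = x + Bp v x • v := by
  rw [act_reflect, hv, inv_one, one_mul, sub_eq_add']

theorem ne_zero {v : ι → ZMod 2} (hv : Q v = 1) : v ≠ 0 := fun h => by
  rw [h, QuadraticMap.map_zero] at hv; exact zero_ne_one hv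

theorem polar_self' (v : ι → ZMod 2) : Bp v v = 0 := by
  rw [QuadraticMap.polar_self, nsmul_eq_mul, show ((2 : ℕ) : ZMod 2) = 0 from rfl, zero_mul]

/-- The reflection at a point. -/
def tp (v : O2P (⇑Q)) : Iso := reflect Q v.1

variable (hQ : (QuadraticMap.polarBilin Q).Nondegenerate)
include hQ

theorem exists_partner {v : ι → ZMod 2} (hv : v ≠ 0) : ∃ w, Bp v w = 1 := by
  by_contra! h
  exact hv (hQ.1 v fun w => (two_cases (Bp v w)).resolve_right (h w))

theorem tp_moves {v : O2P (⇑Q)} {x : ι → ZMod 2} : act (tp v) x = x ↔ Bp v.1 x = 0 := by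
  rw [tp, act_r v.2, add_eq_left, smul_eq_zero, or_iff_left (ne_zero v.2)]

theorem tp_inj : Function.Injective (tp (Q := Q)) := fun u v h => Subtype.ext <| by
  obtain ⟨w, hw⟩ := exists_partner hQ (ne_zero u.2)
  have e := congrArg (fun g : Iso => act g w) h
  simp only [tp, act_r u.2, act_r v.2, add_right_inj, hw, one_smul] at e
  rcases two_cases (Bp v.1 w) with h0 | h0
  · exact absurd (e.trans (by rw [h0, zero_smul])) (ne_zero u.2)
  · exact e.trans (by rw [h0, one_smul])

theorem tp_ne_one (v : O2P (⇑Q)) : tp v ≠ 1 := fun h => by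
  obtain ⟨w, hw⟩ := exists_partner hQ (ne_zero v.2)
  have : act (tp v) w = w := by rw [h, act_one]
  rw [tp_moves hQ, hw] at this
  exact one_ne_zero this

theorem conj_tp (g : Iso) (v : O2P (⇑Q)) : ∃ w : O2P (⇑Q), w.1 = act g v.1 ∧ tp w = g * tp v * g⁻¹ :=
  ⟨⟨act g v.1, by rw [act_map, v.2]⟩, rfl, (reflect_conj g v.1).symm⟩

theorem tp_conj_tp (u v : O2P (⇑Q)) :
    ∃ w : O2P (⇑Q), w.1 = v.1 + Bp u.1 v.1 • u.1 ∧ tp w = tp u * tp v * (tp u)⁻¹ := by
  obtain ⟨w, hw, e⟩ := conj_tp hQ (tp u) v
  exact ⟨w, by rw [hw, tp, act_r u.2], e⟩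

theorem comm_iff (u v : O2P (⇑Q)) : Commute (tp u) (tp v) ↔ o2R (⇑Q) u v := by
  obtain ⟨w, hw, e⟩ := tp_conj_tp hQ u v
  constructor
  · intro h
    rw [h.eq, mul_inv_cancel_right] at e
    have := congrArg Subtype.val (tp_inj hQ e)
    rw [hw, add_eq_left, smul_eq_zero] at this
    exact this.resolve_right (ne_zero u.2)
  · intro h
    rw [show w = v from Subtype.ext (by rw [hw, show Bp u.1 v.1 = 0 from h, zero_smul, add_zero])] at e
    exact mul_inv_eq_iff_eq_mul.1 e.symm

variable (h6 : 6 ≤ Fintype.card ι)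
include h6

theorem grp : Cfsg.IsThreeTranspositionGroup (Set.range (tp (Q := Q))) := by
  refine ⟨set_of_braid ?_ ?_ ?_, fun g d hd => ?_, ?_⟩
  · rintro _ ⟨v, rfl⟩; exact reflect_sq v.1
  · rintro _ ⟨v, rfl⟩; exact tp_ne_one hQ v
  · rintro _ ⟨u, rfl⟩ _ ⟨v, rfl⟩
    by_cases h : o2R (⇑Q) u v
    · exact Or.inl ((comm_iff hQ u v).2 h).eq
    · have h1 : Bp u.1 v.1 = 1 := (two_cases _).resolve_left h
      obtain ⟨w, hw, e⟩ := tp_conj_tp hQ u v
      obtain ⟨w', hw', e'⟩ := tp_conj_tp hQ v u
      rw [h1, one_smul] at hw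
      rw [QuadraticMap.polar_comm, h1, one_smul] at hw'
      have hww : w = w' := Subtype.ext (by rw [hw, hw', add_comm])
      rw [show (tp u)⁻¹ = tp u from inv_eq_of_mul_eq_one_right (reflect_sq u.1)] at e
      rw [show (tp v)⁻¹ = tp v from inv_eq_of_mul_eq_one_right (reflect_sq v.1)] at e'
      exact Or.inr (e.symm.trans (hww ▸ e'))
  · obtain ⟨v, rfl⟩ := hd
    obtain ⟨w, -, e⟩ := conj_tp hQ g v
    exact ⟨w, e⟩
  · rw [eq_top_iff, ← refGroup_eq_top hQ (Or.inr (show Fintype.card ι ≠ 4 by omega)), refGroup,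
      Subgroup.closure_le]
    rintro g ⟨v, hv, rfl⟩
    exact Subgroup.subset_closure ⟨⟨v, (two_cases _).resolve_left hv⟩, rfl⟩

/-- A totally singular subspace has at most half the dimension. -/
theorem exists_value_in (T : Submodule (ZMod 2) (ι → ZMod 2)) {x : ι → ZMod 2}
    (hx : x ∈ (polB Q).orthogonal T) (hxT : x ∉ T)
    (hT : Fintype.card ι ≤ 2 * Module.finrank (ZMod 2) T) : ∃ z ∈ T, Q z = 1 := by
  by_contra! hc
  have h0 : ∀ z ∈ T, Q z = 0 := fun z hz => (two_cases _).resolve_right (hc z hz)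
  have hle : T ≤ (polB Q).orthogonal T := fun a ha => mem_orth.2 fun b hb => by
    rw [QuadraticMap.polar, h0 _ (add_mem hb ha), h0 a ha, h0 b hb]; simp
  exact hxT (Submodule.eq_of_le_of_finrank_le hle (by rw [finrank_orth hQ]; omega) ▸ hx)

theorem cent : Subgroup.center Iso = ⊥ := by
  rw [eq_bot_iff]
  intro g hg
  rw [Subgroup.mem_bot]
  have hfix : ∀ v, Q v = 1 → act g v = v := fun v hv => by
    obtain ⟨w, hw, e⟩ := conj_tp hQ g ⟨v, hv⟩
    rw [← Subgroup.mem_center_iff.1 hg, mul_inv_cancel_right] at e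
    exact (hw ▸ congrArg Subtype.val (tp_inj hQ e) : act g v = v)
  refine ext_act fun x => ?_
  rw [act_one]
  rcases two_cases (Q x) with hx | hx
  · by_cases hx0 : x = 0
    · rw [hx0, map_zero]
    obtain ⟨T, hTd⟩ : ∃ T, T = (polB Q).orthogonal (Submodule.span (ZMod 2) {x}) := ⟨_, rfl⟩
    have hfr : Module.finrank (ZMod 2) T = Fintype.card ι - 1 := by
      rw [hTd, finrank_orth hQ, finrank_span_singleton hx0]
    obtain ⟨z, hzT, hz⟩ : ∃ z ∈ T, Q z = 1 := by
      by_contra! hc
      have h0 : ∀ z ∈ T, Q z = 0 := fun z hz => (two_cases _).resolve_right (hc z hz)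
      have hle : T ≤ (polB Q).orthogonal T := fun a ha => mem_orth.2 fun b hb => by
        rw [QuadraticMap.polar, h0 _ (add_mem hb ha), h0 a ha, h0 b hb]; simp
      have := Submodule.finrank_mono hle
      rw [finrank_orth hQ] at this
      omega
    have hperp : Bp x z = 0 := by
      rw [hTd, mem_orth] at hzT
      exact hzT x (Submodule.mem_span_singleton_self x)
    have hxz : Q (x + z) = 1 := by rw [QuadraticMap.map_add (Q : QuadraticMap _ _ _), hperp, hx, hz]; rfl
    have := hfix _ hxz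
    rw [map_add, hfix z hz, add_left_inj] at this
    exact this
  · exact hfix x hx

theorem hull : HullP (o2R (⇑Q)) (tp (Q := Q)) := by
  intro s t w hst hsw htw hw
  have hts : Bp s.1 t.1 = 1 := (two_cases _).resolve_left hst
  obtain ⟨U, hU⟩ : ∃ U, U = Submodule.span (ZMod 2) {s.1, t.1} := ⟨_, rfl⟩
  have hsU : s.1 ∈ U := hU ▸ Submodule.subset_span (Set.mem_insert _ _)
  have htU : t.1 ∈ U := hU ▸ Submodule.subset_span (Set.mem_insert_of_mem _ rfl)
  have hmem : ∀ x, x ∈ (polB Q).orthogonal U ↔ Bp s.1 x = 0 ∧ Bp t.1 x = 0 := fun x => by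
    rw [mem_orth]
    refine ⟨fun h => ⟨h _ hsU, h _ htU⟩, fun h a ha => ?_⟩
    rw [hU, Submodule.mem_span_pair] at ha
    obtain ⟨p, q, rfl⟩ := ha
    rw [← QuadraticMap.polarBilin_apply_apply]
    simp [h.1, h.2]
  -- points of value one span the common perp
  have hone : ∀ x, Q x = 1 → Bp s.1 x = 0 → Bp t.1 x = 0 → Bp w.1 x = 0 := fun x hx h1 h2 =>
    hw ⟨x, hx⟩ h1 h2
  have hall : ∀ x, Bp s.1 x = 0 → Bp t.1 x = 0 → Bp w.1 x = 0 := fun x h1 h2 => by
    rcases two_cases (Q x) with hx | hx
    · obtain ⟨U', hU'⟩ : ∃ U', U' = Submodule.span (ZMod 2) ({s.1, t.1, x} : Set (ι → ZMod 2)) :=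
        ⟨_, rfl⟩
      have h3 : Module.finrank (ZMod 2) U' ≤ 3 := by
        rw [hU']
        refine (finrank_span_le_card _).trans ?_
        rw [Set.toFinset_insert, Set.toFinset_insert, Set.toFinset_singleton]
        exact Finset.card_le_three
      obtain ⟨z, hzT, hz⟩ := exists_value_in hQ h6 ((polB Q).orthogonal U') (x := s.1)
        (mem_orth.2 fun a ha => by
          rw [QuadraticMap.polar_comm]
          exact mem_orth.1 ha _ (hU' ▸ Submodule.subset_span (Set.mem_insert _ _)))
        (fun h => by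
          have := mem_orth.1 h t.1
            (hU' ▸ Submodule.subset_span (Set.mem_insert_of_mem _ (Set.mem_insert _ _)))
          rw [QuadraticMap.polar_comm, hts] at this
          exact one_ne_zero this)
        (by rw [finrank_orth hQ]; omega)
      have g1 := mem_orth.1 hzT s.1 (hU' ▸ Submodule.subset_span (Set.mem_insert _ _))
      have g2 := mem_orth.1 hzT t.1
        (hU' ▸ Submodule.subset_span (Set.mem_insert_of_mem _ (Set.mem_insert _ _)))
      have g3 := mem_orth.1 hzT x
        (hU' ▸ Submodule.subset_span (Set.mem_insert_of_mem _ (Set.mem_insert_of_mem _ rfl)))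
      have k := hone (x + z)
        (by rw [QuadraticMap.map_add (Q : QuadraticMap _ _ _), g3, hx, hz]; rfl)
        (by rw [QuadraticMap.polar_add_right, h1, g1, add_zero])
        (by rw [QuadraticMap.polar_add_right, h2, g2, add_zero])
      rwa [QuadraticMap.polar_add_right, hone z hz g1 g2, add_zero] at k
    · exact hone x hx h1 h2
  have hws : Bp w.1 s.1 = 1 := by rw [QuadraticMap.polar_comm]; exact (two_cases _).resolve_left hsw
  have hwt : Bp w.1 t.1 = 1 := by rw [QuadraticMap.polar_comm]; exact (two_cases _).resolve_left htw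
  have hzero : ∀ x, Bp (w.1 + (s.1 + t.1)) x = 0 := fun x => by
    have h := hall (x + (Bp t.1 x • s.1 + Bp s.1 x • t.1))
      (by
        simp only [QuadraticMap.polar_add_right, QuadraticMap.polar_smul_right, polar_self', hts,
          smul_eq_mul, mul_one, mul_zero, zero_add]
        exact scalar_add_self _)
      (by
        simp only [QuadraticMap.polar_add_right, QuadraticMap.polar_smul_right, polar_self',
          QuadraticMap.polar_comm (⇑Q) t.1 s.1, hts, smul_eq_mul, mul_one, mul_zero, add_zero]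
        exact scalar_add_self _)
    simp only [QuadraticMap.polar_add_right, QuadraticMap.polar_smul_right, smul_eq_mul, hws, hwt,
      mul_one] at h
    rw [QuadraticMap.polar_add_left, QuadraticMap.polar_add_left]
    linear_combination h
  have hwe : w.1 = s.1 + t.1 := by
    rw [eq_neg_of_add_eq_zero_left (hQ.1 _ hzero), neg_eq_of_add_eq_zero_left (vec_add_self _)]
  obtain ⟨r, hr, e⟩ := tp_conj_tp hQ s t
  rw [hts, one_smul] at hr
  exact Or.inr (Or.inr ((congrArg tp (Subtype.ext (hwe.trans (by rw [hr, add_comm])))).trans e))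

theorem model : Model (o2R (⇑Q)) (tp (Q := Q)) where
  grp := grp hQ h6
  cent := cent hQ h6
  inj := tp_inj hQ
  comm := comm_iff hQ
  hull := hull hQ h6

theorem range_tp : Set.range (tp (Q := Q)) =
    {g : Iso | (((g : GL ι (ZMod 2)) : Matrix ι ι (ZMod 2)) - 1).rank = 1} := by
  ext g
  constructor
  · rintro ⟨v, rfl⟩
    obtain ⟨w, hw⟩ := exists_partner hQ (ne_zero v.2)
    show _ = 1
    rw [Matrix.rank, finrank_eq_one_iff']
    have hmove : ∀ x, ((((tp v : Iso) : GL ι (ZMod 2)) : Matrix ι ι (ZMod 2)) - 1) *ᵥ x =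
        Bp v.1 x • v.1 := fun x => by
      rw [sub_mulVec, one_mulVec, act_mat, tp, act_r v.2, add_sub_cancel_left]
    refine ⟨⟨v.1, w, by rw [Matrix.mulVecLin_apply, hmove, hw, one_smul]⟩,
      fun h => ne_zero v.2 (congrArg Subtype.val h), ?_⟩
    rintro ⟨_, x, rfl⟩
    exact ⟨Bp v.1 x, Subtype.ext (hmove x).symm⟩
  · intro hg
    obtain ⟨a, φ, ha, hM, y₀, hy₀⟩ := Classical.RankOne.exists_axis hg
    have hy1 : φ y₀ = 1 := (two_cases _).resolve_left hy₀
    have hpres : ∀ x, φ x * Bp x a + φ x * φ x * Q a = 0 := fun x => by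
      have := act_map g x
      rw [← act_mat, hM, QuadraticMap.map_add (Q : QuadraticMap _ _ _), QuadraticMap.map_smul,
        QuadraticMap.polar_smul_right, smul_eq_mul, smul_eq_mul] at this
      linear_combination this
    have hpol : ∀ x y, φ x * Bp a y + φ y * Bp x a = 0 := fun x y => by
      have := act_polar g x y
      rw [← act_mat, ← act_mat, hM, hM] at this
      simp only [QuadraticMap.polar_add_left, QuadraticMap.polar_add_right,
        QuadraticMap.polar_smul_left, QuadraticMap.polar_smul_right, smul_eq_mul, polar_self',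
        mul_zero] at this
      linear_combination this
    have hQa : Q a = 1 := by
      rcases two_cases (Q a) with h0 | h0
      · exfalso
        have h1 := hpres y₀
        rw [hy1, h0, one_mul, mul_zero, add_zero] at h1
        obtain ⟨w, hw⟩ := exists_partner hQ ha
        have h2 := hpol y₀ w
        rw [hy1, h1, hw, one_mul, mul_zero, add_zero] at h2
        exact one_ne_zero h2
      · exact h0
    have hya : Bp y₀ a = 1 := by
      have h1 := hpres y₀
      rw [hy1, hQa, one_mul, one_mul, mul_one] at h1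
      exact (by decide : ∀ p : ZMod 2, p + 1 = 0 → p = 1) _ h1
    refine ⟨⟨a, hQa⟩, ext_act fun x => ?_⟩
    rw [tp, act_r hQa, ← act_mat, hM]
    congr 2
    have h2 := hpol x y₀
    rw [QuadraticMap.polar_comm (⇑Q) a y₀, hya, hy1, mul_one, one_mul] at h2
    rw [QuadraticMap.polar_comm]
    exact (by decide : ∀ p q : ZMod 2, p + q = 0 → q = p) _ _ h2

end Cfsg.Agent.Fischer.OTwoModel
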