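import Cfsg.Agent.Lib.Fischer.Graph.Core
import Cfsg.Agent.Lib.Classical.Symplectic
import Cfsg.Agent.Lib.Classical.RankOne

/-!
Fischer's theorem: the model of the symplectic groups over two elements.
-/

set_option autoImplicit false
set_option linter.unusedSectionVars false

namespace Cfsg.Agent.Fischer.SympModel

open Matrix Cfsg.Agent.Forms.SympStd
open Cfsg.Agent.Classical.Symplectic (tv_conj exists_partner)

variable {m : ℕ}

local notation "Vec" => (Fin m ⊕ Fin m → ZMod 2)
local notation "Sp" => Matrix.symplecticGroup (Fin m) (ZMod 2)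
local notation "Mat" => Matrix (Fin m ⊕ Fin m) (Fin m ⊕ Fin m) (ZMod 2)
local notation "f" => Cfsg.sympForm m (ZMod 2)

theorem two_cases : ∀ x : ZMod 2, x = 0 ∨ x = 1 := by decide

theorem add_self_two : ∀ x : ZMod 2, x + x = 0 := by decide

theorem vec_add_self (v : Vec) : v + v = 0 := funext fun i => add_self_two (v i)

theorem symm (u v : Vec) : f v u = f u v := by
  rw [sympForm_swap]
  exact eq_comm.1 ((by decide : ∀ x : ZMod 2, x = -x) _)

theorem f_add (u v w : Vec) : f (u + v) w = f u w + f v w := Classical.Symplectic.f_add_left u v w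

/-- The transvection at a point. -/
def tp (v : SpP m) : Sp := tv v.1 1

theorem tp_apply (v : SpP m) (x : Vec) : ((tp v : Sp) : Mat) *ᵥ x = x + f x v.1 • v.1 := by
  rw [tp, tv_mulVec, one_mul]

theorem tp_sq (v : SpP m) : tp v * tp v = 1 := by
  refine sp_ext fun x => ?_
  rw [mul_mulVec_sp, tp_apply, tp_apply, f_add, Classical.Symplectic.f_smul_left, sympForm_self,
    mul_zero, add_zero, add_assoc, vec_add_self, add_zero]
  simp

theorem tp_moves {v : SpP m} {x : Vec} : ((tp v : Sp) : Mat) *ᵥ x = x ↔ f x v.1 = 0 := by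
  rw [tp_apply, add_eq_left, smul_eq_zero, or_iff_left v.2]

theorem tp_inj : Function.Injective (tp (m := m)) := fun u v h => Subtype.ext <| by
  obtain ⟨w, hw⟩ := exists_partner u.2
  have e := congrArg (fun g : Sp => (g : Mat) *ᵥ w) h
  simp only [tp_apply, add_right_inj] at e
  rw [symm, hw, one_smul] at e
  rcases two_cases (f w v.1) with h0 | h0
  · exact absurd (by rw [e, h0, zero_smul]) u.2
  · rw [e, h0, one_smul]

theorem conj_tp (g : Sp) (v : SpP m) : ∃ w : SpP m, tp w = g * tp v * g⁻¹ := by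
  refine ⟨⟨(g : Mat) *ᵥ v.1, fun e => v.2 ?_⟩, (tv_conj g v.1 1).symm⟩
  have := congrArg (fun x => ((g⁻¹ : Sp) : Mat) *ᵥ x) e
  simp only [mulVec_zero] at this
  rwa [← mul_mulVec_sp, inv_mul_cancel, OneMemClass.coe_one, one_mulVec] at this

theorem tp_conj_tp (u v : SpP m) (h : f v.1 u.1 = 1) :
    ∃ w : SpP m, w.1 = v.1 + u.1 ∧ tp w = tp u * tp v * (tp u)⁻¹ := by
  refine ⟨⟨v.1 + u.1, fun e => ?_⟩, rfl, ?_⟩
  · rw [add_eq_zero_iff_eq_neg] at e
    rw [e, sympForm_swap, neg_eq_iff_eq_neg] at h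
    simp [sympForm_self, Classical.Symplectic.f_smul_left] at h
    rw [show -u.1 = u.1 from (eq_neg_of_add_eq_zero_left (vec_add_self u.1)).symm, sympForm_self] at h
    exact absurd h (by decide)
  · show tv (v.1 + u.1) 1 = tv u.1 1 * tv v.1 1 * (tv u.1 1)⁻¹
    rw [tv_conj]
    congr 1
    rw [show ((tv u.1 1 : Sp) : Mat) *ᵥ v.1 = v.1 + f v.1 u.1 • u.1 from tp_apply u v.1, h, one_smul]

theorem commute_of_zero {u v : SpP m} (h : f v.1 u.1 = 0) : Commute (tp u) (tp v) := by
  refine mul_inv_eq_iff_eq_mul.1 ?_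
  rw [tp, tp, tv_conj, show ((tv u.1 1 : Sp) : Mat) *ᵥ v.1 = v.1 from tp_moves.2 h]

theorem comm_iff (u v : SpP m) : Commute (tp u) (tp v) ↔ spR m u v := by
  refine ⟨fun h => ?_, fun h => commute_of_zero (by rw [symm]; exact h)⟩
  by_contra hc
  obtain ⟨w, hw, e⟩ := tp_conj_tp u v ((two_cases _).resolve_left (by rw [symm]; exact hc))
  rw [h.eq, mul_inv_cancel_right] at e
  have := congrArg Subtype.val (tp_inj e)
  rw [hw, add_eq_left] at this
  exact u.2 this

theorem exists_vec {g : Sp} (hg : ((g : Mat) - 1).rank = 1) : ∃ v, tp v = g := by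
  obtain ⟨a, φ, ha, hM, y₀, hy₀⟩ := Cfsg.Agent.Classical.RankOne.exists_axis hg
  have hy1 : φ y₀ = 1 := (two_cases _).resolve_left hy₀
  have key : ∀ x y, φ y * f x a + φ x * f a y = 0 := fun x y => by
    have h1 := sympForm_mulVec g x y
    rw [hM, hM, f_add, Classical.Symplectic.f_smul_left, Classical.Symplectic.f_add_right,
      Classical.Symplectic.f_add_right, Classical.Symplectic.f_smul_right,
      Classical.Symplectic.f_smul_right, sympForm_self] at h1
    linear_combination h1
  have hay : f a y₀ = 1 := by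
    rcases two_cases (f a y₀) with h0 | h0
    · exfalso
      obtain ⟨w, hw⟩ := exists_partner ha
      have := key w y₀
      rw [hy1, h0, one_mul, mul_zero, add_zero, symm, hw] at this
      exact one_ne_zero this
    · exact h0
  refine ⟨⟨a, ha⟩, sp_ext fun x => ?_⟩
  rw [tp_apply, hM]
  congr 2
  have := key x y₀
  rw [hy1, hay, one_mul, mul_one] at this
  exact (by decide : ∀ p q : ZMod 2, p + q = 0 → p = q) _ _ this

theorem range_tp : Set.range (tp (m := m)) = {g : Sp | ((g : Mat) - 1).rank = 1} := by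
  ext g
  refine ⟨?_, exists_vec⟩
  rintro ⟨v, rfl⟩
  have e : ((tp v : Sp) : Mat) - 1 = vecMulVec v.1 (Matrix.J (Fin m) (ZMod 2) *ᵥ v.1) := by
    refine Matrix.ext_iff_mulVec.2 fun x => ?_
    rw [sub_mulVec, one_mulVec, tp_apply, add_sub_cancel_left, vecMulVec_mulVec, op_smul_eq_smul,
      dotProduct_comm]
    rfl
  show _ = 1
  rw [e]
  refine le_antisymm (Matrix.rank_vecMulVec_le _ _) (Nat.one_le_iff_ne_zero.2 fun h => ?_)
  obtain ⟨w, hw⟩ := exists_partner v.2
  have h0 : ((tp v : Sp) : Mat) *ᵥ w = w := by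
    rw [← sub_eq_zero]
    rw [Matrix.rank, Submodule.finrank_eq_zero, LinearMap.range_eq_bot] at h
    have : (((tp v : Sp) : Mat) - 1) *ᵥ w = 0 := by
      rw [e, ← Matrix.mulVecLin_apply, h, LinearMap.zero_apply]
    rwa [sub_mulVec, one_mulVec] at this
  rw [tp_moves, symm, hw] at h0
  exact one_ne_zero h0

theorem grp : Cfsg.IsThreeTranspositionGroup (Set.range (tp (m := m))) := by
  refine ⟨set_of_braid ?_ ?_ ?_, fun g d hd => ?_, ?_⟩
  · rintro _ ⟨v, rfl⟩; exact tp_sq v
  · rintro _ ⟨v, rfl⟩ h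
    obtain ⟨w, hw⟩ := exists_partner v.2
    have : ((tp v : Sp) : Mat) *ᵥ w = w := by rw [h, OneMemClass.coe_one, one_mulVec]
    rw [tp_moves, symm, hw] at this
    exact one_ne_zero this
  · rintro _ ⟨u, rfl⟩ _ ⟨v, rfl⟩
    rcases two_cases (f v.1 u.1) with h | h
    · exact Or.inl (commute_of_zero h).eq
    · obtain ⟨w, hw, e⟩ := tp_conj_tp u v h
      obtain ⟨w', hw', e'⟩ := tp_conj_tp v u (by rw [symm]; exact h)
      have hww : w = w' := Subtype.ext (by rw [hw, hw', add_comm])
      rw [inv_eq_of_mul_eq_one_right (tp_sq u)] at e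
      rw [inv_eq_of_mul_eq_one_right (tp_sq v)] at e'
      exact Or.inr (e.symm.trans (hww ▸ e'))
  · obtain ⟨v, rfl⟩ := hd
    exact conj_tp g v
  · rw [eq_top_iff, ← closure_tvSet_eq_top, Subgroup.closure_le]
    rintro g ⟨w, c, -, hg⟩
    by_cases h : c = 0 ∨ w = 0
    · have : g = 1 := sp_ext fun x => by
        rw [hg, transvection_mulVec, OneMemClass.coe_one, one_mulVec]
        rcases h with rfl | rfl <;> simp
      rw [this]; exact one_mem _
    · push Not at h
      refine Subgroup.subset_closure ⟨⟨w, h.2⟩, sp_ext fun x => ?_⟩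
      rw [hg, transvection_mulVec, tp_apply]
      obtain rfl : c = 1 := (two_cases c).resolve_left h.1
      rw [one_mul]

theorem cent (hm : 1 ≤ m) : Subgroup.center Sp = ⊥ := by
  rw [eq_bot_iff]
  intro g hg
  obtain ⟨a, ha⟩ := (Classical.Symplectic.mem_center_iff g).1 hg
  rw [Subgroup.mem_bot]
  refine sp_ext fun x => ?_
  rw [ha, OneMemClass.coe_one, one_mulVec]
  rcases two_cases a with rfl | rfl
  · exfalso
    obtain ⟨v, hv⟩ : ∃ v : Vec, v ≠ 0 :=
      ⟨Pi.single (.inl ⟨0, hm⟩) 1, by simp⟩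
    have := congrArg (fun y => ((g⁻¹ : Sp) : Mat) *ᵥ y) (ha v)
    simp only [zero_smul, mulVec_zero] at this
    rw [← mul_mulVec_sp, inv_mul_cancel, OneMemClass.coe_one, one_mulVec] at this
    exact hv this
  · rw [one_smul]

theorem hull : HullP (spR m) (tp (m := m)) := by
  intro s t w hst hsw htw hw
  have hperp : ∀ x : Vec, f s.1 x = 0 → f t.1 x = 0 → f w.1 x = 0 := fun x h1 h2 => by
    by_cases hx : x = 0
    · rw [hx, ← sympB_apply, map_zero]
    · exact hw ⟨x, hx⟩ h1 h2
  obtain ⟨p, hp⟩ : ∃ p : Vec, p = f w.1 t.1 • s.1 + f w.1 s.1 • t.1 := ⟨_, rfl⟩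
  have hts : f t.1 s.1 = 1 := (two_cases _).resolve_left (by rw [symm]; exact hst)
  have h0 : ∀ x, f (w.1 + p) x = 0 := by
    intro x
    obtain ⟨q, hq⟩ : ∃ q : Vec, q = x + f x t.1 • s.1 + f x s.1 • t.1 := ⟨_, rfl⟩
    have hs : f s.1 q = 0 := by
      rw [hq, symm, f_add, f_add, Classical.Symplectic.f_smul_left,
        Classical.Symplectic.f_smul_left, sympForm_self, hts]
      simp [add_self_two]
    have ht : f t.1 q = 0 := by
      rw [hq, symm, f_add, f_add, Classical.Symplectic.f_smul_left,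
        Classical.Symplectic.f_smul_left, sympForm_self, symm t.1 s.1, hts]
      simp [add_self_two]
    have h := hperp q hs ht
    rw [hq, symm, f_add, f_add, Classical.Symplectic.f_smul_left,
      Classical.Symplectic.f_smul_left] at h
    rw [hp, f_add, f_add, Classical.Symplectic.f_smul_left, Classical.Symplectic.f_smul_left]
    rw [symm w.1 x, symm w.1 s.1, symm w.1 t.1] at h
    rw [symm x s.1, symm x t.1]
    linear_combination h
  have hwp : w.1 + p = 0 := by
    by_contra hne
    obtain ⟨x, hx⟩ := exists_partner hne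
    rw [h0 x] at hx
    exact zero_ne_one hx
  have hws : f w.1 s.1 = 1 := (two_cases _).resolve_left (by rw [symm]; exact hsw)
  have hwt : f w.1 t.1 = 1 := (two_cases _).resolve_left (by rw [symm]; exact htw)
  rw [hp, hws, hwt, one_smul, one_smul] at hwp
  obtain ⟨r, hr, e⟩ := tp_conj_tp s t hts
  refine Or.inr (Or.inr ?_)
  rw [← e, show w = r from Subtype.ext ?_]
  rw [hr, add_comm t.1 s.1]
  have := eq_neg_of_add_eq_zero_left hwp
  rwa [show -(s.1 + t.1) = s.1 + t.1 from (eq_neg_of_add_eq_zero_left (vec_add_self _)).symm] at this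

theorem model (hm : 1 ≤ m) : Model (spR m) (tp (m := m)) where
  grp := grp
  cent := cent hm
  inj := tp_inj
  comm := comm_iff
  hull := hull

end Cfsg.Agent.Fischer.SympModel
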