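import Cfsg.Agent.Lib.Fischer.Graph.Core
import Cfsg.Agent.Lib.ThreeTransp.UnitaryPoints

/-!
Fischer's theorem: the model of the projective unitary groups over four elements.
-/

set_option autoImplicit false
set_option linter.unusedSectionVars false

namespace Cfsg.Agent.Fischer.UnitModel

open Matrix Cfsg.Agent.Classical.Unitary Cfsg.Agent.GroupStructure3.ThreeTransUnitary
open Cfsg.Agent.ThreeTransp Cfsg.Agent.ThreeTransp.UnitaryPoints
open Cfsg.Agent.InvChar.Coset (FF)

variable {n : ℕ}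

local notation "H" => Cfsg.hermForm n FF 2

theorem hF : Fintype.card FF = 2 ^ 2 := rfl

theorem vec_add_self (v : Fin n → FF) : v + v = 0 :=
  funext fun i => (by decide : ∀ x : FF, x + x = 0) (v i)

/-- The representative of a point. -/
noncomputable def rep (L : UP n) : Fin n → FF := L.2.choose

theorem rep_ne (L : UP n) : rep L ≠ 0 := L.2.choose_spec.1

theorem H_rep (L : UP n) : H (rep L) (rep L) = 0 := L.2.choose_spec.2.1

theorem span_rep (L : UP n) : L.1 = Submodule.span FF {rep L} := L.2.choose_spec.2.2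

theorem mem_rep (L : UP n) : rep L ∈ L.1 := by
  rw [span_rep]; exact Submodule.mem_span_singleton_self _

theorem R_iff (L M : UP n) : uR n L M ↔ H (rep L) (rep M) = 0 := by
  refine ⟨fun h => h _ (mem_rep L) _ (mem_rep M), fun h v hv w hw => ?_⟩
  rw [span_rep, Submodule.mem_span_singleton] at hv hw
  obtain ⟨a, rfl⟩ := hv
  obtain ⟨b, rfl⟩ := hw
  rw [H_smul_left, H_smul_right, h, mul_zero, mul_zero]

/-- The point of an isotropic vector. -/
def pt {v : Fin n → FF} (hv : H v v = 0) (hv0 : v ≠ 0) : UP n :=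
  ⟨Submodule.span FF {v}, v, hv0, hv, rfl⟩

theorem eq_of_smul {L M : UP n} {a : FF} (ha : a ≠ 0) (h : rep L = a • rep M) : L = M :=
  Subtype.ext (by
    rw [span_rep, span_rep, h]
    exact Submodule.span_singleton_smul_eq (isUnit_iff_ne_zero.2 ha) _)

/-- The transvection at a point. -/
noncomputable def sig (L : UP n) : Cfsg.SU n FF 2 := tr hF (H_rep L)

theorem sig_pt {v : Fin n → FF} (hv : H v v = 0) (hv0 : v ≠ 0) : sig (pt hv hv0) = tr hF hv := by
  have h : rep (pt hv hv0) ∈ Submodule.span FF {v} := mem_rep (pt hv hv0)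
  rw [Submodule.mem_span_singleton] at h
  obtain ⟨a, ha⟩ := h
  have ha0 : a ≠ 0 := fun h0 => rep_ne (pt hv hv0) (by rw [← ha, h0, zero_smul])
  exact (tr_congr hF _ (by rw [H_smul_left, H_smul_right, hv, mul_zero, mul_zero]) ha.symm).trans
    (tr_smul hF hv ha0 _)

theorem range_sig : Set.range (sig (n := n)) =
    {g : Cfsg.SU n FF 2 |
      (((g : Matrix.SpecialLinearGroup (Fin n) FF) : Matrix (Fin n) (Fin n) FF) - 1).rank = 1} := by
  ext g
  constructor
  · rintro ⟨L, rfl⟩
    exact (rank_one_iff hF _).2 ⟨rep L, H_rep L, rep_ne L, rfl⟩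
  · intro hg
    obtain ⟨v, hv, hv0, rfl⟩ := (rank_one_iff hF g).1 hg
    exact ⟨pt hv hv0, sig_pt hv hv0⟩

theorem sig_comm (L M : UP n) : Commute (sig L) (sig M) ↔ uR n L M := by
  rw [R_iff]
  exact tr_commute_iff hF (H_rep L) (H_rep M) (rep_ne L) (rep_ne M)

theorem sig_inj (L M : UP n) (h : sig L = sig M) : L = M := by
  obtain ⟨x, hx⟩ : ∃ x, H x (rep L) ≠ 0 := by
    by_contra! hc
    exact rep_ne L (eq_zero_of_H hF fun y => (H_eq_zero_comm hF).1 (hc y))
  have e := congrArg (fun g : Cfsg.SU n FF 2 => mat g *ᵥ x) h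
  simp only [sig, tr_mulVec, add_right_inj] at e
  refine eq_of_smul (a := (H x (rep L))⁻¹ * H x (rep M)) ?_ ?_
  · intro h0
    rcases mul_eq_zero.1 h0 with h1 | h1
    · exact inv_ne_zero hx h1
    · rw [h1, zero_smul, smul_eq_zero] at e
      exact rep_ne L (e.resolve_left hx)
  · rw [mul_smul, ← e, smul_smul, inv_mul_cancel₀ hx, one_smul]

variable (hn : 4 ≤ n)
include hn

theorem grp : Cfsg.IsThreeTranspositionGroup (Set.range (sig (n := n))) := by
  rw [range_sig]
  exact (Classes.of_class (three_class hF hn)).1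

theorem mk_inj (L M : UP n)
    (h : (QuotientGroup.mk (sig L) : Cfsg.PSU n FF 2) = QuotientGroup.mk (sig M)) : L = M := by
  obtain ⟨a, ha⟩ := (mem_center_iff hF (by omega) _).1 (QuotientGroup.eq.1 h)
  obtain ⟨x, hx0, xu, xv, -⟩ := exists_perp3 hF hn (rep L) (rep M) (rep M)
  have h1 : ∀ y, mat ((sig L)⁻¹ * sig M) *ᵥ y = a • y := fun y => by
    rw [ha, smul_mulVec, one_mulVec]
  have hfix : mat ((sig L)⁻¹ * sig M) *ᵥ x = x := by
    rw [mul_mulVec, show sig M = tr hF (H_rep M) from rfl, tr_mulVec, xv, zero_smul, add_zero]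
    exact inv_mulVec _ (by rw [sig, tr_mulVec, xu, zero_smul, add_zero])
  rw [h1] at hfix
  have ha1 : a = 1 := by
    have : (a - 1) • x = 0 := by rw [sub_smul, hfix, one_smul, sub_self]
    exact sub_eq_zero.1 ((smul_eq_zero.1 this).resolve_right hx0)
  refine sig_inj L M (inv_mul_eq_one.1 (SU_ext fun y => ?_))
  rw [h1, ha1, one_smul, mat_one, one_mulVec]

theorem not_central (L : UP n) : sig L ∉ Subgroup.center (Cfsg.SU n FF 2) := by
  intro h
  obtain ⟨u, hu, huv⟩ := exists_partner' hF (H_rep L) (rep_ne L)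
  have hu0 : u ≠ 0 := fun e => by
    rw [e, H_zero_left] at huv
    exact zero_ne_one huv
  have := (tr_commute_iff hF hu (H_rep L) hu0 (rep_ne L)).1 (Subgroup.mem_center_iff.1 h _)
  rw [huv] at this
  exact one_ne_zero this

theorem hull : HullP (uR n) (sig (n := n)) := by
  intro s t w hst hsw htw hw
  rw [R_iff] at hst hsw htw
  obtain ⟨c, hc⟩ : ∃ c, c = H (rep s) (rep t) := ⟨_, rfl⟩
  obtain ⟨u, hu⟩ : ∃ u, u = c⁻¹ • rep s := ⟨_, rfl⟩
  obtain ⟨v, hvd⟩ : ∃ v, v = rep t := ⟨_, rfl⟩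
  obtain ⟨x, hxd⟩ : ∃ x, x = rep w := ⟨_, rfl⟩
  have hc0 : c ≠ 0 := hc ▸ hst
  have huu : H u u = 0 := by rw [hu, H_smul_left, H_smul_right, H_rep, mul_zero, mul_zero]
  have hvv : H v v = 0 := hvd ▸ H_rep t
  have hxx : H x x = 0 := hxd ▸ H_rep w
  have huv : H u v = 1 := by rw [hu, hvd, H_smul_left, ← hc, inv_mul_cancel₀ hc0]
  have hvu : H v u = 1 := by rw [← H_conj hF, huv, one_pow]
  have hsu : ∀ y, H y u = 0 → H y (rep s) = 0 := fun y h => by
    rw [hu, H_smul_right] at h
    exact (mul_eq_zero.1 h).resolve_left (pow_ne_zero _ (inv_ne_zero hc0))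
  have hiso : ∀ y, H y y = 0 → H y u = 0 → H y v = 0 → H y x = 0 := by
    intro y hy hyu hyv
    by_cases hy0 : y = 0
    · rw [hy0, H_zero_left]
    obtain ⟨a, ha⟩ := Submodule.mem_span_singleton.1
      (mem_rep (pt hy hy0) : rep (pt hy hy0) ∈ Submodule.span FF {y})
    have ha0 : a ≠ 0 := fun h0 => rep_ne (pt hy hy0) (by rw [← ha, h0, zero_smul])
    have k := (R_iff _ _).1 (hw (pt hy hy0)
      ((R_iff _ _).2 (by rw [← ha, H_smul_right, (H_eq_zero_comm hF).1 (hsu y hyu), mul_zero]))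
      ((R_iff _ _).2 (by rw [← ha, H_smul_right, ← hvd, (H_eq_zero_comm hF).1 hyv, mul_zero])))
    rw [← hxd, ← ha, H_smul_right, mul_eq_zero] at k
    exact (H_eq_zero_comm hF).1 (k.resolve_left (pow_ne_zero _ ha0))
  obtain ⟨ω, h3, hω, hω0⟩ := exists_omega hF
  have hperp : ∀ y, H y u = 0 → H y v = 0 → H y x = 0 := by
    intro y hyu hyv
    rcases norm_cases hF y with hy | hy
    · exact hiso y hy hyu hyv
    obtain ⟨q, qu, qv, qy, qq⟩ := exists_unit_perp hF hn huu hvv huv hyu hyv hy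
    have yq : H y q = 0 := (H_eq_zero_comm hF).1 qy
    have hk : ∀ b : FF, b * b ^ 2 = 1 → H y x + b * H q x = 0 := fun b hb => by
      rw [← H_smul_left, ← H_add_left]
      refine hiso _ ?_ (by rw [H_add_left, H_smul_left, hyu, qu, mul_zero, add_zero])
        (by rw [H_add_left, H_smul_left, hyv, qv, mul_zero, add_zero])
      rw [H_add_left, H_add_right hF, H_add_right hF, H_smul_left, H_smul_left, H_smul_right,
        H_smul_right, hy, qq, yq, qy]
      linear_combination hb + two_zero hF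
    linear_combination -ω * (ω * hk 1 (by rw [one_pow, mul_one]) + hk ω (by rw [← pow_succ', h3])) +
      H y x * hω + ω ^ 2 * H q x * two_zero hF
  obtain ⟨p, hp⟩ : ∃ p, p = x - H x v • u - H x u • v := ⟨_, rfl⟩
  have hpp := proj_mem hF huu hvv huv x
  rw [← hp, mem_perp2 hF] at hpp
  have hp0 : p = 0 := by
    refine eq_zero_of_H hF fun y => ?_
    have hq := proj_mem hF huu hvv huv y
    rw [mem_perp2 hF] at hq
    have h1 : H p (y - H y v • u - H y u • v) = 0 := by
      obtain ⟨qq', hqq⟩ : ∃ q, q = y - H y v • u - H y u • v := ⟨_, rfl⟩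
      rw [← hqq] at hq ⊢
      rw [hp, H_sub_left, H_sub_left, H_smul_left, H_smul_left,
        (H_eq_zero_comm hF).1 (hperp qq' hq.1 hq.2), (H_eq_zero_comm hF).1 hq.1,
        (H_eq_zero_comm hF).1 hq.2, mul_zero, mul_zero, sub_zero, sub_zero]
    rw [H_sub_right hF, H_sub_right hF, H_smul_right, H_smul_right, hpp.1, hpp.2, mul_zero, mul_zero,
      sub_zero, sub_zero] at h1
    exact h1
  have hx : x = H x v • u + H x u • v := by
    rw [hp, sub_sub, sub_eq_zero] at hp0
    exact hp0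
  obtain ⟨a, ha⟩ : ∃ a, a = H x v := ⟨_, rfl⟩
  obtain ⟨b, hb⟩ : ∃ b, b = H x u := ⟨_, rfl⟩
  rw [← ha, ← hb] at hx
  have hb0 : b ≠ 0 := fun h0 => hsw ((H_eq_zero_comm hF).1 (hxd ▸ hsu x (hb ▸ h0)))
  have ha0 : a ≠ 0 := fun h0 => htw ((H_eq_zero_comm hF).1 (by rw [← hxd, ← hvd, ← ha, h0]))
  have hab : a * b ^ 2 + b * a ^ 2 = 0 := by
    have := hxx
    rw [hx] at this
    simp [H_add_left, H_add_right hF, H_smul_left, H_smul_right, huu, hvv, huv, hvu] at this
    linear_combination this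
  have hab' : a = b :=
    (by decide : ∀ p q : FF, p ≠ 0 → q ≠ 0 → p * q ^ 2 + q * p ^ 2 = 0 → p = q) a b ha0 hb0 hab
  refine Or.inr (Or.inr ?_)
  have hzw : H (u + v) (u + v) = 0 := by
    simp [H_add_left, H_add_right hF, huu, hvv, huv, hvu]
    linear_combination two_zero hF
  have hwt : tr hF (H_rep w) = tr hF hzw :=
    (tr_congr hF (H_rep w) (by rw [H_smul_left, H_smul_right, hzw, mul_zero, mul_zero])
      (by rw [← hxd, hx, hab', smul_add] : rep w = b • (u + v))).trans (tr_smul hF hzw hb0 _)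
  rw [show sig w = tr hF (H_rep w) from rfl, hwt,
    show sig s = tr hF huu from ((tr_congr hF huu
      (by rw [H_smul_left, H_smul_right, H_rep, mul_zero, mul_zero]) hu).trans
        (tr_smul hF (H_rep s) (inv_ne_zero hc0) _)).symm,
    show sig t = tr hF hvv from (tr_congr hF hvv (H_rep t) hvd).symm]
  exact (tr_conj hF _ hvv hzw (by rw [tr_mulVec, hvu, one_smul, add_comm])).symm

theorem model : Model (uR n) (fun L => (QuotientGroup.mk (sig L) : Cfsg.PSU n FF 2)) :=
  mk_model (grp hn) (mk_inj hn) (not_central hn) sig_comm (hull hn)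

end Cfsg.Agent.Fischer.UnitModel
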