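import Cfsg.Agent.Lib.Fischer.Graph.Sym
import Cfsg.Agent.Lib.Fischer.Graph.Symp
import Cfsg.Agent.Lib.Fischer.Graph.OTwo
import Cfsg.Agent.Lib.Fischer.Graph.OThree
import Cfsg.Agent.Lib.Fischer.Graph.Unit
import Cfsg.Agent.Lib.Fischer.Local.Transfer
import Cfsg.Agent.Lib.Classical.OrthForms

/-!
Fischer's theorem: a centreless group with one of the listed commuting graphs is the listed group.
-/

set_option autoImplicit false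
set_option linter.unusedSectionVars false

namespace Cfsg.Agent.Fischer

open Cfsg.Agent.InvChar.Coset (FF)

universe u

variable {G : Type u} [Group G] {D : Set G}
  (hD : Cfsg.IsThreeTranspositionGroup D) (hZ : Subgroup.center G = ⊥)
include hD hZ

theorem GIso.sym_iso {n : ℕ} (hn : 5 ≤ n) (h : GIso D (symR n)) :
    ∃ e : G ≃* Equiv.Perm (Fin n), e '' D = {σ : Equiv.Perm (Fin n) | σ.IsSwap} := by
  obtain ⟨e, he⟩ := h.iso hD hZ (SymModel.model hn)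
  exact ⟨e, he.trans SymModel.range_tp⟩

theorem GIso.sp_iso {m : ℕ} (hm : 1 ≤ m) (h : GIso D (spR m)) :
    ∃ e : G ≃* Matrix.symplecticGroup (Fin m) (ZMod 2), e '' D = {g : Matrix.symplecticGroup (Fin m) (ZMod 2) | ((g : Matrix (Fin m ⊕ Fin m) (Fin m ⊕ Fin m) (ZMod 2)) - 1).rank = 1} := by
  obtain ⟨e, he⟩ := h.iso hD hZ (SympModel.model hm)
  exact ⟨e, he.trans SympModel.range_tp⟩

theorem GIso.unit_iso {n : ℕ} (hn : 4 ≤ n) (h : GIso D (uR n)) :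
    ∃ e : G ≃* Cfsg.PSU n FF 2, e '' D = (QuotientGroup.mk : ↥(Cfsg.SU n FF 2) → Cfsg.PSU n FF 2) '' {g : ↥(Cfsg.SU n FF 2) | (((g : Matrix.SpecialLinearGroup (Fin n) FF) : Matrix (Fin n) (Fin n) FF) - 1).rank = 1} := by
  obtain ⟨e, he⟩ := h.iso hD hZ (UnitModel.model hn)
  refine ⟨e, he.trans ?_⟩
  rw [← UnitModel.range_sig, ← Set.range_comp]
  rfl

theorem GIso.o2p_iso {m : ℕ} (hm : 3 ≤ m) (h : GIso D (o2R (Cfsg.quadFormPlus m (ZMod 2)))) :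
    ∃ e : G ≃* ↥(Cfsg.isometryGroup (ZMod 2) (Cfsg.quadFormPlus m (ZMod 2))), e '' D = {g : ↥(Cfsg.isometryGroup (ZMod 2) (Cfsg.quadFormPlus m (ZMod 2))) | (((g : GL (Fin m ⊕ Fin m) (ZMod 2)) : Matrix (Fin m ⊕ Fin m) (Fin m ⊕ Fin m) (ZMod 2)) - 1).rank = 1} := by
  rw [← Cfsg.Agent.Classical.OrthForms.plusQ_eq] at h ⊢
  have hQ := Forms.PlusStd.plusQ_nondeg (ZMod 2) m
  have h6 : 6 ≤ Fintype.card (Fin m ⊕ Fin m) := by
    rw [Fintype.card_sum, Fintype.card_fin]; omega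
  obtain ⟨e, he⟩ := h.iso hD hZ (OTwoModel.model hQ h6)
  exact ⟨e, he.trans (OTwoModel.range_tp hQ h6)⟩

theorem GIso.o2m_iso {m : ℕ} (hm : 2 ≤ m) (h : GIso D (o2R (Cfsg.quadFormMinus m (ZMod 2) 1 1))) :
    ∃ e : G ≃* ↥(Cfsg.isometryGroup (ZMod 2) (Cfsg.quadFormMinus m (ZMod 2) 1 1)), e '' D = {g : ↥(Cfsg.isometryGroup (ZMod 2) (Cfsg.quadFormMinus m (ZMod 2) 1 1)) | (((g : GL ((Fin m ⊕ Fin m) ⊕ Fin 2) (ZMod 2)) : Matrix ((Fin m ⊕ Fin m) ⊕ Fin 2) ((Fin m ⊕ Fin m) ⊕ Fin 2) (ZMod 2)) - 1).rank = 1} := by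
  rw [← Cfsg.Agent.Classical.OrthForms.minQ_eq] at h ⊢
  have hQ := Cfsg.Agent.Classical.OrthForms.minQ_nondeg m (a := (1 : ZMod 2)) (b := 1) (by decide)
  have h6 : 6 ≤ Fintype.card ((Fin m ⊕ Fin m) ⊕ Fin 2) := by
    rw [Fintype.card_sum, Fintype.card_sum, Fintype.card_fin, Fintype.card_fin]; omega
  obtain ⟨e, he⟩ := h.iso hD hZ (OTwoModel.model hQ h6)
  exact ⟨e, he.trans (OTwoModel.range_tp hQ h6)⟩

theorem GIso.o3_iso {n : ℕ} (hn : 5 ≤ n) {Q : QuadraticForm (ZMod 3) (Fin n → ZMod 3)}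
    (hQ : (QuadraticMap.polarBilin Q).Nondegenerate) (h : GIso D (o3R Q)) :
    ∃ e : G ≃* ↥(Cfsg.reflectionSubgroup (⇑Q) 1) ⧸ Subgroup.center ↥(Cfsg.reflectionSubgroup (⇑Q) 1), e '' D = (QuotientGroup.mk : ↥(Cfsg.reflectionSubgroup (⇑Q) 1) → _) '' {g : ↥(Cfsg.reflectionSubgroup (⇑Q) 1) | (g : ↥(Cfsg.isometryGroup (ZMod 3) (⇑Q))) ∈ Cfsg.reflectionsOfNorm (⇑Q) 1} := by
  obtain ⟨e, he⟩ := h.iso hD hZ (OThreeModel.model hn hQ)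
  refine ⟨e, he.trans ?_⟩
  rw [← OThreeModel.range_sig, ← Set.range_comp]
  rfl

/-- A centreless group is its own central quotient. -/
theorem exists_quot_self : ∃ f : Quot D ≃* G, f '' img D = D := by
  obtain ⟨a, ha⟩ : ∃ a : ↥(Subgroup.closure D) ≃* G, ∀ x, a x = (x : G) :=
    ⟨(MulEquiv.subgroupCongr hD.2.2).trans Subgroup.topEquiv, fun x => rfl⟩
  have hb : Subgroup.center ↥(Subgroup.closure D) = ⊥ := by
    rw [eq_bot_iff]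
    intro z hz
    have h1 : a z ∈ Subgroup.center G := by
      rw [← GenA.Tower.map_center a]; exact ⟨z, hz, rfl⟩
    rw [hZ, Subgroup.mem_bot] at h1
    rw [Subgroup.mem_bot]
    exact a.injective (h1.trans (map_one a).symm)
  obtain ⟨f, hf⟩ : ∃ f : Quot D ≃* G, ∀ x : ↥(Subgroup.closure D), f (QuotientGroup.mk x) = a x :=
    ⟨((QuotientGroup.quotientMulEquivOfEq hb).trans QuotientGroup.quotientBot).trans a, fun x => rfl⟩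
  refine ⟨f, Set.ext fun y => ⟨?_, fun hy => ?_⟩⟩
  · rintro ⟨_, ⟨x, hx, rfl⟩, rfl⟩
    rw [hf, ha]; exact hx
  · exact ⟨_, ⟨⟨y, Subgroup.subset_closure hy⟩, hy, rfl⟩, by rw [hf, ha]⟩

theorem m22_of_quot (h : Cfsg.IsOfTypeM22 (Quot D) (img D)) : Cfsg.IsOfTypeM22 G D := by
  obtain ⟨f, hf⟩ := exists_quot_self hD hZ
  exact hf ▸ GenA.Tower.type22 f _ h

theorem m23_of_quot (h : Cfsg.IsOfTypeM23 (Quot D) (img D)) : Cfsg.IsOfTypeM23 G D := by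
  obtain ⟨f, hf⟩ := exists_quot_self hD hZ
  exact hf ▸ GenA.Tower.type23 f _ h

theorem m24_of_quot (h : Cfsg.IsOfTypeM24 (Quot D) (img D)) : Cfsg.IsOfTypeM24 G D := by
  obtain ⟨f, hf⟩ := exists_quot_self hD hZ
  exact hf ▸ type24 f _ h

/-- A centreless group on the list is one of Fischer's groups. -/
theorem Types.conclusion (h : Types D) : (∃ n : ℕ, ∃ e : G ≃* Equiv.Perm (Fin n), e '' D = {σ : Equiv.Perm (Fin n) | σ.IsSwap}) ∨ (∃ m : ℕ, ∃ e : G ≃* Matrix.symplecticGroup (Fin m) (ZMod 2), e '' D = {g : Matrix.symplecticGroup (Fin m) (ZMod 2) | ((g : Matrix (Fin m ⊕ Fin m) (Fin m ⊕ Fin m) (ZMod 2)) - 1).rank = 1}) ∨ (∃ (n : ℕ) (F : Type) (_ : Field F) (_ : Fintype F), Fintype.card F = 4 ∧ ∃ e : G ≃* Cfsg.PSU n F 2, e '' D = (QuotientGroup.mk : ↥(Cfsg.SU n F 2) → Cfsg.PSU n F 2) '' {g : ↥(Cfsg.SU n F 2) | (((g : Matrix.SpecialLinearGroup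 (Fin n) F) : Matrix (Fin n) (Fin n) F) - 1).rank = 1}) ∨ ((∃ m : ℕ, ∃ e : G ≃* ↥(Cfsg.isometryGroup (ZMod 2) (Cfsg.quadFormPlus m (ZMod 2))), e '' D = {g : ↥(Cfsg.isometryGroup (ZMod 2) (Cfsg.quadFormPlus m (ZMod 2))) | (((g : GL (Fin m ⊕ Fin m) (ZMod 2)) : Matrix (Fin m ⊕ Fin m) (Fin m ⊕ Fin m) (ZMod 2)) - 1).rank = 1}) ∨ (∃ m : ℕ, ∃ e : G ≃* ↥(Cfsg.isometryGroup (ZMod 2) (Cfsg.quadFormMinus m (ZMod 2) 1 1)), e '' D = {g : ↥(Cfsg.isometryGroup (ZMod 2) (Cfsg.quadFormMinus m (ZMod 2) 1 1)) | (((g : GL ((Fin m ⊕ Fin m) ⊕ Fin 2) (ZMod 2)) : Matrix ((Fin m ⊕ Fin m) ⊕ Fin 2) ((Fin m ⊕ Fin m) ⊕ Fin 2) (ZMod 2)) - 1).rank = 1})) ∨ (∃ n : ℕ, ∃ Q : QuadraticForm (ZMod 3) (Fin n → ZMod 3), (QuadraticMap.polarBilin Q).Nondegenerate ∧ ∃ c : ZMod 3, c ≠ 0 ∧ ∃ e : G ≃* ↥(Cfsg.reflectionSubgroup (⇑Q) c) ⧸ Subgroup.center ↥(Cfsg.reflectionSubgroup (⇑Q)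 c), e '' D = (QuotientGroup.mk : ↥(Cfsg.reflectionSubgroup (⇑Q) c) → _) '' {g : ↥(Cfsg.reflectionSubgroup (⇑Q) c) | (g : ↥(Cfsg.isometryGroup (ZMod 3) (⇑Q))) ∈ Cfsg.reflectionsOfNorm (⇑Q) c}) ∨ (Cfsg.IsOfTypeM22 G D ∨ Cfsg.IsOfTypeM23 G D ∨ Cfsg.IsOfTypeM24 G D) := by
  obtain ⟨f, hf⟩ := exists_quot_self hD hZ
  cases h with
  | sym n hn e => exact .inl ⟨n, e.sym_iso hD hZ hn⟩
  | sp m hm e => exact .inr (.inl ⟨m, e.sp_iso hD hZ (by omega)⟩)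
  | unit n hn e => exact .inr (.inr (.inl ⟨n, FF, inferInstance, inferInstance, rfl, e.unit_iso hD hZ hn⟩))
  | o2p m hm e => exact .inr (.inr (.inr (.inl (.inl ⟨m, e.o2p_iso hD hZ hm⟩))))
  | o2m m hm e => exact .inr (.inr (.inr (.inl (.inr ⟨m, e.o2m_iso hD hZ hm⟩))))
  | o3 n hn Q hQ e =>
    exact .inr (.inr (.inr (.inr (.inl ⟨n, Q, hQ, 1, one_ne_zero, e.o3_iso hD hZ hn hQ⟩))))
  | m22 e => exact .inr (.inr (.inr (.inr (.inr (.inl (hf ▸ GenA.Tower.type22 f _ e))))))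
  | m23 e => exact .inr (.inr (.inr (.inr (.inr (.inr (.inl (hf ▸ GenA.Tower.type23 f _ e)))))))
  | m24 e => exact .inr (.inr (.inr (.inr (.inr (.inr (.inr (hf ▸ type24 f _ e)))))))

end Cfsg.Agent.Fischer
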