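import Cfsg.Agent.Lib.Fischer.Graph.Core

/-!
Fischer's theorem: a parametrisation by a model commutes with conjugation.
-/

set_option autoImplicit false
set_option linter.unusedSectionVars false

namespace Cfsg.Agent.Fischer

open Cfsg.Agent.ThreeTransp

universe u v

variable {G : Type u} [Group G] {E : Set G} {M : Type v} [Group M] {P : Type}

/-- Labels of two non-commuting members fix the label of the third. -/
theorem Model.map_conj {R : P → P → Prop} {τ : P → M} (hM : Model R τ)
    (htt : Cfsg.IsThreeTranspositionSet E) (φ : E ≃ P)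
    (hφ : ∀ a b : E, Commute (a : G) (b : G) ↔ R (φ a) (φ b)) {a b : E}
    (hab : ¬ Commute (a : G) (b : G)) (hc : (a : G) * b * a ∈ E) :
    τ (φ ⟨(a : G) * b * a, hc⟩) = τ (φ a) * τ (φ b) * (τ (φ a))⁻¹ := by
  have ha := Basic.sq htt a.2
  have hb := Basic.sq htt b.2
  have hbraid := Basic.braid htt a.2 b.2 hab
  have key : ∀ p q : G, p * p = 1 → Commute p (p * q * p) → Commute q p := by
    intro p q hp k
    have k' : p * (p * q * p) = p * q * p * p := k.eq
    rw [← mul_assoc, ← mul_assoc, hp, one_mul, mul_assoc _ p p, hp, mul_one] at k'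
    exact k'
  rcases hM.hull (φ a) (φ b) (φ ⟨(a : G) * b * a, hc⟩) (fun k => hab ((hφ a b).2 k))
    (fun k => hab (key _ _ ha ((hφ a ⟨_, hc⟩).2 k)).symm)
    (fun k => hab (key _ _ hb (hbraid ▸ (hφ b ⟨_, hc⟩).2 k)))
    (fun e h1 h2 => by
      obtain ⟨q, rfl⟩ := φ.surjective e
      exact (hφ ⟨(a : G) * b * a, hc⟩ q).1
        ((((hφ a q).2 h1).mul_left ((hφ b q).2 h2)).mul_left ((hφ a q).2 h1))) with h | h | h
  · exfalso
    have h1 : (a : G) * b * a = a := congrArg Subtype.val (φ.injective h)
    refine hab ?_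
    have h2 : (b : G) = a := mul_left_cancel (mul_right_cancel
      (h1.trans (by rw [ha, one_mul] : (a : G) = a * a * a)))
    rw [h2]
  · exfalso
    have h1 : (a : G) * b * a = b := congrArg Subtype.val (φ.injective h)
    refine hab ?_
    show (a : G) * b = b * a
    conv_rhs => rw [← h1]
    rw [mul_assoc ((a : G) * b) a a, ha, mul_one]
  · exact h

end Cfsg.Agent.Fischer
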