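import Cfsg.Agent.Lib.Fischer.Defs
import Cfsg.Agent.Lib.ThreeTransp.Basic
import Cfsg.Agent.Lib.ThreeTransp.M22Iso.Main

/-!
Fischer's theorem: a model is a class of three-transpositions in a group without centre, parametrised
by a graph in which the third member of a line is determined by the common neighbours. A group with
the same commuting graph is isomorphic to it.
-/

set_option autoImplicit false
set_option linter.unusedSectionVars false

namespace Cfsg.Agent.Fischer

open Cfsg.Agent.ThreeTransp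
open Cfsg.Agent.ThreeTransp.Factor (nb)

universe u v

/-- In the graph `R` parametrising a class by `τ` the third member of a line is determined by the
common neighbours of the other two. -/
def HullP {M : Type v} [Group M] {P : Type} (R : P → P → Prop) (τ : P → M) : Prop :=
  ∀ s t w : P, ¬ R s t → ¬ R s w → ¬ R t w → (∀ e, R s e → R t e → R w e) →
    w = s ∨ w = t ∨ τ w = τ s * τ t * (τ s)⁻¹

/-- A model of the graph `R`. -/
structure Model {M : Type v} [Group M] {P : Type} (R : P → P → Prop) (τ : P → M) : Prop where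
  grp : Cfsg.IsThreeTranspositionGroup (Set.range τ)
  cent : Subgroup.center M = ⊥
  inj : Function.Injective τ
  comm : ∀ s t, Commute (τ s) (τ t) ↔ R s t
  hull : HullP R τ

variable {G : Type u} [Group G] {D : Set G}

/-- A group with the commuting graph of a model is that model. -/
theorem iso_of_graph {M : Type v} [Group M] {P : Type} {R : P → P → Prop} {τ : P → M}
    (hD : Cfsg.IsThreeTranspositionGroup D) (hZ : Subgroup.center G = ⊥) (hM : Model R τ)
    (φ : D ≃ P) (hφ : ∀ a b : D, Commute (a : G) (b : G) ↔ R (φ a) (φ b)) :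
    ∃ e : G ≃* M, e '' D = Set.range τ ∧ ∀ a : D, e (a : G) = τ (φ a) := by
  classical
  obtain ⟨Φ, hΦ⟩ : ∃ Φ : G → M, ∀ a : D, Φ (a : G) = τ (φ a) :=
    ⟨fun g => if h : g ∈ D then τ (φ ⟨g, h⟩) else 1, fun a => dif_pos a.2⟩
  have hr : ∀ a b : D, R (φ a) (φ b) → Commute (a : G) (b : G) := fun a b => (hφ a b).2
  obtain ⟨e, he, hev⟩ := M22Iso.iso_of_map' hD hZ hM.grp hM.cent (Φ := Φ)
    (fun y hy => ⟨φ ⟨y, hy⟩, (hΦ ⟨y, hy⟩).symm⟩)
    (fun y hy z hz h => by
      rw [hΦ ⟨y, hy⟩, hΦ ⟨z, hz⟩] at h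
      exact congrArg Subtype.val (φ.injective (hM.inj h)))
    (by
      rintro _ ⟨s, rfl⟩
      exact ⟨φ.symm s, (φ.symm s).2, by rw [hΦ, Equiv.apply_symm_apply]⟩)
    (fun y hy z hz => by
      obtain ⟨w, hw⟩ : ∃ w : D, (w : G) = y * z * y⁻¹ := ⟨⟨_, hD.2.1 y z hz⟩, rfl⟩
      rw [← hw, hΦ w, hΦ ⟨y, hy⟩, hΦ ⟨z, hz⟩]
      by_cases hc : Commute y z
      · rw [show w = (⟨z, hz⟩ : D) from Subtype.ext (by rw [hw, hc.eq, mul_inv_cancel_right])]
        exact (mul_inv_eq_iff_eq_mul.2 ((hM.comm _ _).2 ((hφ ⟨y, hy⟩ ⟨z, hz⟩).1 hc)).eq).symm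
      · rcases hM.hull (φ ⟨y, hy⟩) (φ ⟨z, hz⟩) (φ w) (fun h => hc (hr _ _ h))
            (fun h => hc (by
              have h1 : Commute y (w : G) := hr ⟨y, hy⟩ w h
              rw [hw] at h1
              refine (Basic.commute_conj (g := y) (a := y) (b := z)).1 ?_
              rwa [mul_inv_cancel_right]))
            (fun h => hc (by
              have h1 : Commute z (w : G) := hr ⟨z, hz⟩ w h
              rw [hw] at h1
              have hb : y * z * y⁻¹ = z * y * z⁻¹ := by
                rw [Classes.inv hD hy, Classes.inv hD hz]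
                exact Basic.braid hD.1 hy hz hc
              rw [hb] at h1
              refine ((Basic.commute_conj (g := z) (a := z) (b := y)).1 ?_).symm
              rwa [mul_inv_cancel_right]))
            (fun e h1 h2 => by
          obtain ⟨q, rfl⟩ := φ.surjective e
          refine (hφ w q).1 ?_
          rw [hw]
          exact ((hr _ _ h1).mul_left (hr _ _ h2)).mul_left (hr _ _ h1).inv_left) with h | h | h
        · exfalso
          have h1 : y * z * y⁻¹ = y := hw ▸ congrArg Subtype.val (φ.injective h)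
          rw [mul_inv_eq_iff_eq_mul, mul_left_cancel_iff] at h1
          exact hc (h1 ▸ Commute.refl z)
        · exfalso
          have h1 : y * z * y⁻¹ = z := hw ▸ congrArg Subtype.val (φ.injective h)
          exact hc (mul_inv_eq_iff_eq_mul.1 h1)
        · exact h)
  exact ⟨e, he, fun a => (hev _ a.2).trans (hΦ a)⟩

theorem GIso.iso {M : Type v} [Group M] {P : Type} {R : P → P → Prop} {τ : P → M}
    (hD : Cfsg.IsThreeTranspositionGroup D) (hZ : Subgroup.center G = ⊥) (hM : Model R τ)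
    (h : GIso D R) : ∃ e : G ≃* M, e '' D = Set.range τ := by
  obtain ⟨φ, hφ⟩ := h
  obtain ⟨e, he, -⟩ := iso_of_graph hD hZ hM φ hφ
  exact ⟨e, he⟩

/-- A class which stays injective modulo the centre gives a class in the central quotient. -/
theorem mk_model {N : Type v} [Group N] {P : Type} {R : P → P → Prop} {σ : P → N}
    (hgrp : Cfsg.IsThreeTranspositionGroup (Set.range σ))
    (hinj : ∀ s t, (QuotientGroup.mk (σ s) : N ⧸ Subgroup.center N) = QuotientGroup.mk (σ t) → s = t)
    (hne : ∀ s, σ s ∉ Subgroup.center N)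
    (hcomm : ∀ s t, Commute (σ s) (σ t) ↔ R s t) (hull : HullP R σ) :
    Model R (fun s => (QuotientGroup.mk (σ s) : N ⧸ Subgroup.center N)) := by
  obtain ⟨τ, hτ⟩ : ∃ τ : P → N ⧸ Subgroup.center N, τ = fun s => QuotientGroup.mk (σ s) := ⟨_, rfl⟩
  rw [← hτ]
  have hrange : Set.range τ = (QuotientGroup.mk' (Subgroup.center N)) '' Set.range σ := by
    rw [hτ, ← Set.range_comp]; rfl
  refine ⟨⟨⟨?_, ?_⟩, ?_, ?_⟩, ?_, fun s t h => hinj s t (by rwa [hτ] at h), fun s t => ?_, ?_⟩
  · rw [hrange]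
    rintro _ ⟨_, ⟨s, rfl⟩, rfl⟩
    refine orderOf_eq_prime ?_ fun h => hne s ((QuotientGroup.eq_one_iff _).1 h)
    rw [← map_pow, pow_two, Basic.sq hgrp.1 ⟨s, rfl⟩, map_one]
  · rw [hrange]
    rintro _ ⟨a, ha, rfl⟩ _ ⟨b, hb, rfl⟩
    rcases hgrp.1.2 a ha b hb with h | h
    · exact Or.inl (by rw [← map_mul, ← map_pow, h, map_one])
    · exact Or.inr (by rw [← map_mul, ← map_pow, h, map_one])
  · rw [hrange]
    intro g
    obtain ⟨g, rfl⟩ := QuotientGroup.mk_surjective g
    rintro _ ⟨a, ha, rfl⟩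
    exact ⟨g * a * g⁻¹, hgrp.2.1 g a ha, rfl⟩
  · rw [hrange, ← MonoidHom.map_closure, hgrp.2.2,
      Subgroup.map_top_of_surjective _ (QuotientGroup.mk'_surjective _)]
  · rw [eq_bot_iff]
    intro z hz
    obtain ⟨g, rfl⟩ := QuotientGroup.mk_surjective z
    rw [Subgroup.mem_bot, QuotientGroup.eq_one_iff, ← Subgroup.centralizer_univ, ← Subgroup.coe_top,
      ← hgrp.2.2, Subgroup.centralizer_closure, Subgroup.mem_centralizer_iff]
    rintro _ ⟨s, rfl⟩
    obtain ⟨t, ht⟩ := hgrp.2.1 g _ ⟨s, rfl⟩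
    have e : t = s := hinj _ _ (by
      rw [ht, QuotientGroup.mk_mul, QuotientGroup.mk_mul, QuotientGroup.mk_inv,
        ← Subgroup.mem_center_iff.1 hz, mul_inv_cancel_right])
    rw [e] at ht
    exact (mul_inv_eq_iff_eq_mul.1 ht.symm).symm
  · rw [← hcomm, hτ]
    refine ⟨fun h => ?_, fun h => h.map (QuotientGroup.mk' _)⟩
    by_contra hc
    have h3 : ((QuotientGroup.mk (σ s) : N ⧸ Subgroup.center N) * QuotientGroup.mk (σ t)) ^ 3 = 1 := by
      rw [← QuotientGroup.mk_mul, ← QuotientGroup.mk_pow,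
        Basic.cube_of_not_commute hgrp.1 ⟨s, rfl⟩ ⟨t, rfl⟩ hc]
      rfl
    have hs : (QuotientGroup.mk (σ s) : N ⧸ Subgroup.center N) * QuotientGroup.mk (σ s) = 1 := by
      rw [← QuotientGroup.mk_mul, Basic.sq hgrp.1 ⟨s, rfl⟩]; rfl
    have ht : (QuotientGroup.mk (σ t) : N ⧸ Subgroup.center N) * QuotientGroup.mk (σ t) = 1 := by
      rw [← QuotientGroup.mk_mul, Basic.sq hgrp.1 ⟨t, rfl⟩]; rfl
    have h1 : (QuotientGroup.mk (σ s) : N ⧸ Subgroup.center N) * QuotientGroup.mk (σ t) = 1 := by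
      rw [pow_succ, (Basic.sq_prod_eq_one_iff hs ht).2 h, one_mul] at h3
      exact h3
    exact hc (hinj s t ((eq_inv_of_mul_eq_one_left h1).trans (inv_eq_of_mul_eq_one_left ht)) ▸
      Commute.refl _)
  · intro s t w hst hsw htw hw
    rcases hull s t w hst hsw htw hw with h | h | h
    · exact Or.inl h
    · exact Or.inr (Or.inl h)
    · refine Or.inr (Or.inr ?_)
      rw [hτ]
      simp only [h, QuotientGroup.mk_mul, QuotientGroup.mk_inv]

/-- Involutions braiding pairwise are three-transpositions. -/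
theorem set_of_braid {S : Set G} (h2 : ∀ a ∈ S, a * a = 1) (h1 : ∀ a ∈ S, a ≠ 1)
    (hb : ∀ a ∈ S, ∀ b ∈ S, a * b = b * a ∨ a * b * a = b * a * b) :
    Cfsg.IsThreeTranspositionSet S := by
  refine ⟨fun a ha => orderOf_eq_prime (by rw [pow_two, h2 a ha]) (h1 a ha), fun a ha b hb' => ?_⟩
  rcases hb a ha b hb' with h | h
  · exact Or.inl (by rw [(show Commute a b from h).mul_pow, pow_two, pow_two, h2 a ha, h2 b hb', one_mul])
  · refine Or.inr ?_
    calc (a * b) ^ 3 = (a * b * a) * (b * a * b) := by simp [pow_succ, mul_assoc]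
      _ = a * b * (a * a) * b * a := by rw [← h]; simp [mul_assoc]
      _ = 1 := by rw [h2 a ha, mul_one, mul_assoc a b b, h2 b hb', mul_one, h2 a ha]

/-- Primitivity keeps a class injective modulo the centre. -/
theorem inj_of_prim {N : Type v} [Group N] {D : Set N} (hD : Cfsg.IsThreeTranspositionGroup D)
    (hp : Cfsg.IsPrimitiveUnderConj D) {a b : N} (ha : a ∈ D) (hb : b ∈ D)
    (h : (QuotientGroup.mk a : N ⧸ Subgroup.center N) = QuotientGroup.mk b) : a = b := by
  obtain ⟨B, hB⟩ : ∃ B : Set N, B = {x | x ∈ D ∧ a⁻¹ * x ∈ Subgroup.center N} := ⟨_, rfl⟩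
  have haB : a ∈ B := by rw [hB]; exact ⟨ha, by rw [inv_mul_cancel]; exact one_mem _⟩
  have hbB : b ∈ B := by rw [hB]; exact ⟨hb, QuotientGroup.eq.1 h⟩
  have hblock : ∀ g : N, (fun x => g * x * g⁻¹) '' B = B ∨ Disjoint ((fun x => g * x * g⁻¹) '' B) B := by
    intro g
    have key : ∀ x ∈ B, ∀ y : N, y = g * x * g⁻¹ → ∀ z ∈ B, z = y →
        ∀ x' ∈ B, g * x' * g⁻¹ ∈ B := by
      intro x hx y hy z hz hzy x' hx'
      rw [hB] at hx hz hx' ⊢
      refine ⟨hD.2.1 g _ hx'.1, ?_⟩
      have h1 : (QuotientGroup.mk x : N ⧸ Subgroup.center N) = QuotientGroup.mk x' :=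
        (QuotientGroup.eq.2 hx.2).symm.trans (QuotientGroup.eq.2 hx'.2)
      refine QuotientGroup.eq.1 ((QuotientGroup.eq.2 hz.2).trans ?_)
      rw [hzy, hy]
      simp only [QuotientGroup.mk_mul, h1]
    rcases Set.disjoint_or_nonempty_inter ((fun x => g * x * g⁻¹) '' B) B with h0 | ⟨y, ⟨x, hx, hxy⟩, hyB⟩
    · exact Or.inr h0
    · refine Or.inl (Set.Subset.antisymm ?_ fun z hz => ?_)
      · rintro _ ⟨x', hx', rfl⟩
        exact key x hx y hxy.symm y hyB rfl x' hx'
      · refine ⟨g⁻¹ * z * g, ?_, by group⟩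
        rw [hB] at hz hx hyB ⊢
        refine ⟨by simpa using hD.2.1 g⁻¹ z hz.1, ?_⟩
        refine QuotientGroup.eq.1 ((QuotientGroup.eq.2 hx.2).trans ?_)
        have h1 : (QuotientGroup.mk (g * x * g⁻¹) : N ⧸ Subgroup.center N) = QuotientGroup.mk z := by
          simp only at hxy
          rw [hxy]
          exact (QuotientGroup.eq.2 hyB.2).symm.trans (QuotientGroup.eq.2 hz.2)
        simp only [QuotientGroup.mk_mul, QuotientGroup.mk_inv] at h1 ⊢
        rw [← h1]
        group
  rcases hp.2.2 B (fun x hx => by rw [hB] at hx; exact hx.1) hblock with hs | hall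
  · exact hs haB hbB
  · exfalso
    obtain ⟨p, hpD, q, hq, hpq⟩ := hp.2.1
    have hz : ∀ x ∈ D, a⁻¹ * x ∈ Subgroup.center N := fun x hx => by
      rw [← hall, hB] at hx; exact hx.2
    have hac : ∀ x ∈ D, Commute a x := fun x hx => by
      have := (Commute.refl a).mul_right (Subgroup.mem_center_iff.1 (hz x hx) a)
      rwa [mul_inv_cancel_left] at this
    have hcen : a ∈ Subgroup.center N := by
      rw [← Subgroup.centralizer_univ, ← Subgroup.coe_top, ← hD.2.2, Subgroup.centralizer_closure,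
        Subgroup.mem_centralizer_iff]
      exact fun x hx => (hac x hx).eq.symm
    have hone : ∀ x ∈ D, x = a := fun x hx => by
      obtain ⟨g, rfl⟩ := hp.1 a ha x hx
      rw [Subgroup.mem_center_iff.1 hcen g, mul_inv_cancel_right]
    exact hpq ((hone p hpD).trans (hone q hq).symm)

end Cfsg.Agent.Fischer
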