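import Cfsg.Agent.Lib.Fischer.Defs
import Cfsg.Agent.Lib.Classical.OrthMinIndex.Values
import Cfsg.Agent.Lib.Classical.UnitaryCount
import Cfsg.Agent.Lib.Forms.IsoLines

/-!
Fischer's theorem: the number of points of each commuting graph on the list, and the discriminants
over three elements.
-/

set_option autoImplicit false
set_option linter.unusedSectionVars false

namespace Cfsg.Agent.Fischer.Counts

open Cfsg.Agent.InvChar.Coset (FF)
open Cfsg.Agent.Classical.OrthMinIndex (vals vals_plus_eq vals_min_eq)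
open Cfsg.Agent.Classical.OrthForms

/-! ### Transpositions and symplectic points -/

theorem two_card_sym (n : ℕ) : 2 * Nat.card (SymP n) = n * (n - 1) := by
  rw [Nat.card_eq_fintype_card, Fintype.card_finset_len, Fintype.card_fin, Nat.choose_two_right,
    Nat.mul_div_cancel' (Nat.even_mul_pred_self n).two_dvd]

theorem two_degree_sym {n : ℕ} (s : SymP n) :
    2 * {t : SymP n | t ≠ s ∧ symR n s t}.ncard = (n - 2) * (n - 3) := by
  classical
  have h : {t : SymP n | t ≠ s ∧ symR n s t} = {t : SymP n | t.1 ⊆ Finset.univ \ s.1} := by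
    ext t
    constructor
    · rintro ⟨hne, h | h⟩
      · exact absurd h.symm hne
      · exact Finset.subset_sdiff.2 ⟨Finset.subset_univ _, h.symm⟩
    · intro h
      have h' := (Finset.subset_sdiff.1 h).2
      refine ⟨fun e => ?_, Or.inr h'.symm⟩
      rw [e, disjoint_self, Finset.bot_eq_empty] at h'
      simpa [h'] using s.2
  have e : {t : SymP n // t.1 ⊆ Finset.univ \ s.1} ≃
      ↥((Finset.univ \ s.1).powersetCard 2) :=
    { toFun := fun t => ⟨t.1.1, Finset.mem_powersetCard.2 ⟨t.2, t.1.2⟩⟩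
      invFun := fun t => ⟨⟨t.1, (Finset.mem_powersetCard.1 t.2).2⟩, (Finset.mem_powersetCard.1 t.2).1⟩
      left_inv := fun t => rfl
      right_inv := fun t => rfl }
  rw [h, ← Nat.card_coe_set_eq, Set.coe_setOf, Nat.card_congr e, Nat.card_eq_fintype_card,
    Fintype.card_coe, Finset.card_powersetCard, Finset.card_sdiff_of_subset (Finset.subset_univ _),
    s.2, Finset.card_univ, Fintype.card_fin, Nat.choose_two_right,
    Nat.mul_div_cancel' (Nat.even_mul_pred_self (n - 2)).two_dvd, Nat.sub_sub]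

theorem card_sp (m : ℕ) : Nat.card (SpP m) + 1 = 4 ^ m := by
  classical
  have h0 : Nat.card {v : Fin m ⊕ Fin m → ZMod 2 // v = 0} = 1 := by simp
  have h := Nat.card_congr (Equiv.sumCompl fun v : Fin m ⊕ Fin m → ZMod 2 => v = 0)
  rw [Nat.card_sum, h0, Nat.card_fun, Nat.card_zmod, Nat.card_sum, Nat.card_fin] at h
  have h4 : (4 : ℕ) ^ m = 2 ^ (m + m) := by
    rw [show (4 : ℕ) = 2 ^ 2 from rfl, ← pow_mul, two_mul]
  show Nat.card {v : Fin m ⊕ Fin m → ZMod 2 // ¬ v = 0} + 1 = 4 ^ m
  rw [h4, add_comm]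
  exact h

/-! ### Non-singular points over two elements -/

theorem two_card_o2p (m : ℕ) :
    2 * Nat.card (O2P (Cfsg.quadFormPlus m (ZMod 2))) + 2 ^ m = 4 ^ m := by
  have h := vals_plus_eq (F := ZMod 2) (q := 2) (ZMod.card 2) m one_ne_zero
  rw [plusQ_eq, show (4 : ℕ) = 2 ^ 2 from rfl, ← pow_mul] at *
  exact h

theorem two_card_o2m (m : ℕ) :
    2 * Nat.card (O2P (Cfsg.quadFormMinus m (ZMod 2) 1 1)) = 2 ^ (2 * m + 2) + 2 ^ (m + 1) := by
  have h := vals_min_eq (F := ZMod 2) (q := 2) (ZMod.card 2) m (a := 1) (b := 1) (by decide)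
    (c := 1) one_ne_zero
  rwa [minQ_eq] at h

/-! ### Isotropic points -/

theorem three_card_unit {n : ℕ} (hn : 1 ≤ n) :
    3 * Nat.card (UP n) = if Even n then (2 ^ n - 1) * (2 ^ (n - 1) + 1)
      else (2 ^ n + 1) * (2 ^ (n - 1) - 1) := by
  classical
  have hF : Fintype.card FF = 2 ^ 2 := InvChar.Coset.FF.card
  have h := Forms.IsoLines.herm_card_isotropic (F := FF) (q := 2) hF (n := n)
  rw [Classical.UnitaryCount.cnt_zero_eq hF] at h
  let f : {v : Fin n → FF // v ≠ 0 ∧ Cfsg.hermForm n FF 2 v v = 0} → UP n := fun v =>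
    ⟨Submodule.span FF {v.1}, v.1, v.2.1, v.2.2, rfl⟩
  have hfib : ∀ L : UP n, Nat.card {v // f v = L} = 3 := by
    rintro ⟨_, w, hw0, hw, rfl⟩
    have e : {v // f v = ⟨Submodule.span FF {w}, w, hw0, hw, rfl⟩} ≃ {c : FF // c ≠ 0} := by
      let g : {c : FF // c ≠ 0} → {v // f v = ⟨Submodule.span FF {w}, w, hw0, hw, rfl⟩} := fun c =>
        ⟨⟨c.1 • w, smul_ne_zero c.2 hw0, by
          rw [Classical.UnitaryCount.hermForm_smul_smul, hw, mul_zero]⟩,
          Subtype.ext (Submodule.span_singleton_smul_eq (IsUnit.mk0 _ c.2) w)⟩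
      refine (Equiv.ofBijective g ⟨fun c d e => ?_, ?_⟩).symm
      · have : c.1 • w = d.1 • w := congrArg (fun v => v.1.1) e
        exact Subtype.ext (smul_left_injective FF hw0 this)
      · rintro ⟨⟨v, hv0, hv⟩, hfv⟩
        have hfv' : Submodule.span FF {v} = Submodule.span FF {w} := congrArg Subtype.val hfv
        obtain ⟨c, hc⟩ := Submodule.mem_span_singleton.1 (hfv' ▸ Submodule.mem_span_singleton_self v)
        exact ⟨⟨c, fun e => hv0 (by rw [← hc, e, zero_smul])⟩, Subtype.ext (Subtype.ext hc)⟩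
    rw [Nat.card_congr e, Nat.card_eq_fintype_card]
    decide
  rw [Forms.IsoLines.card_fibers f hfib] at h
  omega

/-! ### Points of value one over three elements -/

/-- The numbers of vectors of the three values of a sum of weighted squares. -/
def tri : List (ZMod 3) → ℕ × ℕ × ℕ
  | [] => (1, 0, 0)
  | a :: l =>
    let p := tri l
    if a = 1 then (p.1 + 2 * p.2.2, p.2.1 + 2 * p.1, p.2.2 + 2 * p.2.1)
    else if a = 2 then (p.1 + 2 * p.2.1, p.2.1 + 2 * p.2.2, p.2.2 + 2 * p.1)
    else (3 * p.1, 3 * p.2.1, 3 * p.2.2)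

/-- A component. -/
def sel (p : ℕ × ℕ × ℕ) (t : ZMod 3) : ℕ := if t = 0 then p.1 else if t = 1 then p.2.1 else p.2.2

theorem sel_cons (a : ZMod 3) (l : List (ZMod 3)) : ∀ t : ZMod 3,
    sel (tri (a :: l)) t = sel (tri l) t + 2 * sel (tri l) (t - a) := by
  obtain rfl | rfl | rfl := (by decide : ∀ x : ZMod 3, x = 0 ∨ x = 1 ∨ x = 2) a <;>
    intro t <;> obtain rfl | rfl | rfl := (by decide : ∀ x : ZMod 3, x = 0 ∨ x = 1 ∨ x = 2) t <;>
    simp +decide [sel, tri] <;> omega

/-- The weighted sum of squares. -/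
def ws {n : ℕ} (w x : Fin n → ZMod 3) : ZMod 3 := ∑ i, w i * (x i * x i)

theorem card_ws : ∀ {n : ℕ} (w : Fin n → ZMod 3) (t : ZMod 3),
    Nat.card {x : Fin n → ZMod 3 // ws w x = t} = sel (tri (List.ofFn w)) t := by
  classical
  intro n
  induction n with
  | zero =>
    intro w t
    by_cases ht : t = 0
    · subst ht
      rw [Nat.card_congr (Equiv.subtypeUnivEquiv fun x => by simp [ws])]
      simp [tri, sel]
    · rw [Nat.card_eq_zero.2 (Or.inl ⟨fun x => ht (by rw [← x.2]; simp [ws])⟩)]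
      simp [tri, sel, ht]
  | succ n ih =>
    intro w t
    have e : {x : Fin (n + 1) → ZMod 3 // ws w x = t} ≃
        Σ a : ZMod 3, {y : Fin n → ZMod 3 // ws (fun i => w i.succ) y = t - w 0 * (a * a)} :=
      { toFun := fun x => ⟨x.1 0, fun i => x.1 i.succ, by
          rw [eq_sub_iff_add_eq, add_comm]
          exact (Fin.sum_univ_succ _).symm.trans x.2⟩
        invFun := fun s => ⟨Fin.cons s.1 s.2.1, by
          rw [ws, Fin.sum_univ_succ]
          simp only [Fin.cons_zero, Fin.cons_succ]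
          have := s.2.2
          rw [ws, eq_sub_iff_add_eq, add_comm] at this
          exact this⟩
        left_inv := fun x => Subtype.ext (Fin.cons_self_tail x.1)
        right_inv := fun s => rfl }
    rw [Nat.card_congr e, Nat.card_sigma, List.ofFn_succ, sel_cons]
    show ∑ a : Fin 3, _ = _
    rw [Fin.sum_univ_three, ih, ih, ih]
    show sel _ (t - w 0 * ((0 : ZMod 3) * 0)) + sel _ (t - w 0 * ((1 : ZMod 3) * 1)) +
      sel _ (t - w 0 * ((2 : ZMod 3) * 2)) = _
    rw [show (2 : ZMod 3) * 2 = 1 by decide, mul_zero, mul_zero, sub_zero, mul_one, mul_one]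
    omega

variable {n : ℕ} {Q : QuadraticForm (ZMod 3) (Fin n → ZMod 3)}

/-- A diagonal shape, with the discriminant. -/
theorem exists_shape (hQ : (QuadraticMap.polarBilin Q).Nondegenerate) :
    ∃ (w : Fin n → ZMod 3) (e : (Fin n → ZMod 3) ≃ₗ[ZMod 3] (Fin n → ZMod 3)),
      (∀ i, w i = 1 ∨ w i = 2) ∧ (∀ x, Q x = ws w (e x)) ∧
      Cfsg.polarGramDet (⇑Q) = ((List.ofFn w).map fun a => 2 * a).prod := by
  classical
  haveI : Invertible (2 : ZMod 3) := invertibleOfNonzero (by decide)
  have hsep : (QuadraticMap.associated (R := ZMod 3) Q).SeparatingLeft := fun x hx =>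
    hQ.1 x fun y => by
      have h2 := congrArg (fun z => (2 : ZMod 3) * z) (hx y)
      have h3 : (2 • QuadraticMap.associated (R := ZMod 3) Q) x y = QuadraticMap.polarBilin Q x y := by
        rw [QuadraticMap.two_nsmul_associated]
      simp only [LinearMap.smul_apply, nsmul_eq_mul, Nat.cast_ofNat] at h3
      rw [h2, mul_zero] at h3
      exact h3.symm
  obtain ⟨w', ⟨e'⟩⟩ := QuadraticForm.equivalent_weightedSumSquares_units_of_nondegenerate' Q hsep
  have hr : Module.finrank (ZMod 3) (Fin n → ZMod 3) = n := Module.finrank_fin_fun (ZMod 3)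
  obtain ⟨w, hw⟩ : ∃ w : Fin n → ZMod 3, w = fun i => (w' (Fin.cast hr.symm i) : ZMod 3) := ⟨_, rfl⟩
  let e : (Fin n → ZMod 3) ≃ₗ[ZMod 3] (Fin n → ZMod 3) :=
    e'.toLinearEquiv.trans (LinearEquiv.funCongrLeft (ZMod 3) (ZMod 3) (finCongr hr.symm))
  have he : ∀ x, Q x = ws w (e x) := fun x => by
    rw [← e'.map_app x, QuadraticMap.weightedSumSquares_apply, ws]
    refine Fintype.sum_equiv (finCongr hr) _ _ fun i => ?_
    simp [hw, e, Units.smul_def]
  have hw2 : ∀ i, w i = 1 ∨ w i = 2 := fun i => by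
    have h0 : ∀ x : ZMod 3, x ≠ 0 → x = 1 ∨ x = 2 := by decide
    exact h0 _ (by rw [hw]; exact (w' _).ne_zero)
  refine ⟨w, e, hw2, he, ?_⟩
  let C : Matrix (Fin n) (Fin n) (ZMod 3) := LinearMap.toMatrix' e.toLinearMap
  have hC : (Matrix.of fun i j : Fin n => QuadraticMap.polar (⇑Q) (Pi.single i 1) (Pi.single j 1)) =
      C.transpose * (Matrix.diagonal fun i => 2 * w i) * C := by
    ext i j
    rw [Matrix.of_apply, Matrix.mul_apply, QuadraticMap.polar, he, he, he, map_add]
    simp only [Matrix.mul_diagonal, Matrix.transpose_apply, C, LinearMap.toMatrix'_apply,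
      LinearEquiv.coe_coe, ws, Pi.add_apply, ← Finset.sum_sub_distrib]
    refine Finset.sum_congr rfl fun k _ => ?_
    ring
  have hdet : C.det ≠ 0 := by
    have h1 : C * LinearMap.toMatrix' e.symm.toLinearMap = 1 := by
      rw [← LinearMap.toMatrix'_comp]; simp
    exact left_ne_zero_of_mul_eq_one (a := C.det) (b := (LinearMap.toMatrix' e.symm.toLinearMap).det)
      (by rw [← Matrix.det_mul, h1, Matrix.det_one])
  have hsq : ∀ x : ZMod 3, x ≠ 0 → x * x = 1 := by decide
  rw [Cfsg.polarGramDet, hC, Matrix.det_mul, Matrix.det_mul, Matrix.det_transpose,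
    Matrix.det_diagonal, mul_comm (C.det) _, mul_assoc, hsq _ hdet, mul_one, List.map_ofFn,
    List.prod_ofFn]
  rfl

/-- The point of a vector of value one. -/
def point {v : Fin n → ZMod 3} (hv : Q v = 1) : O3P Q := ⟨{v, -v}, v, hv, rfl⟩

/-- Twice the number of points with a property is the number of their vectors. -/
theorem two_card_sub (p : O3P Q → Prop) :
    2 * Nat.card {s : O3P Q // p s} =
      Nat.card {v : {v : Fin n → ZMod 3 // Q v = 1} // p (point v.2)} := by
  classical
  rw [mul_comm]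
  symm
  refine Forms.IsoLines.card_fibers
    (fun v : {v : {v : Fin n → ZMod 3 // Q v = 1} // p (point v.2)} =>
      (⟨point v.1.2, v.2⟩ : {s : O3P Q // p s})) ?_
  rintro ⟨⟨s, u, hu, rfl⟩, hp⟩
  have hne : u ≠ -u := fun e => by
    have h0 : u = 0 := funext fun i => by
      have h2 : ∀ x : ZMod 3, x = -x → x = 0 := by decide
      exact h2 _ (congrFun e i)
    rw [h0, QuadraticMap.map_zero] at hu
    exact zero_ne_one hu
  have hu' : Q (-u) = 1 := by rw [QuadraticMap.map_neg, hu]
  have hpp : point hu' = (⟨{u, -u}, u, hu, rfl⟩ : O3P Q) := Subtype.ext (by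
    simp [point, Set.pair_comm])
  rw [Nat.card_eq_two_iff]
  refine ⟨⟨⟨⟨u, hu⟩, hp⟩, rfl⟩, ⟨⟨⟨-u, hu'⟩, by rw [hpp]; exact hp⟩, Subtype.ext hpp⟩,
    fun e => hne (congrArg (fun v => v.1.1.1) e), ?_⟩
  refine Set.eq_univ_of_forall fun v => ?_
  have hv : ({v.1.1.1, -v.1.1.1} : Set (Fin n → ZMod 3)) = {u, -u} :=
    congrArg (fun t => t.1.1) v.2
  have : v.1.1.1 ∈ ({u, -u} : Set (Fin n → ZMod 3)) := hv.subset (Set.mem_insert _ _)
  rcases this with h | h
  · exact Or.inl (Subtype.ext (Subtype.ext (Subtype.ext h)))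
  · exact Or.inr (Set.mem_singleton_iff.2 (Subtype.ext (Subtype.ext (Subtype.ext h))))

/-- Twice the number of points is the number of vectors of value one. -/
theorem two_card_o3 : 2 * Nat.card (O3P Q) = Nat.card {v : Fin n → ZMod 3 // Q v = 1} := by
  have h := two_card_sub (Q := Q) fun _ => True
  rwa [Nat.card_congr (Equiv.subtypeUnivEquiv fun _ => trivial),
    Nat.card_congr (Equiv.subtypeUnivEquiv fun _ => trivial)] at h

theorem card_o3 {w : Fin n → ZMod 3} {e : (Fin n → ZMod 3) ≃ₗ[ZMod 3] (Fin n → ZMod 3)}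
    (he : ∀ x, Q x = ws w (e x)) : 2 * Nat.card (O3P Q) = sel (tri (List.ofFn w)) 1 := by
  rw [two_card_o3, ← card_ws]
  exact Nat.card_congr (e.toEquiv.subtypeEquiv fun x => by rw [he]; rfl)

/-- The lists of length `n` with entries one and two. -/
def lists : ℕ → List (List (ZMod 3))
  | 0 => [[]]
  | n + 1 => (lists n).flatMap fun l => [1 :: l, 2 :: l]

theorem mem_lists : ∀ {n : ℕ} {w : Fin n → ZMod 3}, (∀ i, w i = 1 ∨ w i = 2) → List.ofFn w ∈ lists n := by
  intro n
  induction n with
  | zero => intro w _; simp [lists]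
  | succ n ih =>
    intro w hw
    rw [List.ofFn_succ, lists, List.mem_flatMap]
    refine ⟨_, ih fun i => hw i.succ, ?_⟩
    rcases hw 0 with h | h <;> simp [h]

theorem nine_big : ∀ l ∈ lists 9, ∀ t : ZMod 3, 6480 ≤ sel (tri l) t := by decide +kernel

theorem big : ∀ {m : ℕ} (l : List (ZMod 3)), l ∈ lists (10 + m) → ∀ t, 6480 < sel (tri l) t := by
  intro m
  induction m with
  | zero =>
    intro l hl t
    simp only [lists, List.mem_flatMap, List.mem_cons, List.not_mem_nil, or_false] at hl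
    obtain ⟨l', hl', h⟩ := hl
    have hm : l' ∈ lists 9 := by
      simp only [lists, List.mem_flatMap, List.mem_cons, List.not_mem_nil, or_false]
      exact hl'
    rcases h with rfl | rfl <;> rw [sel_cons] <;>
      linarith [nine_big l' hm t, nine_big l' hm (t - 1), nine_big l' hm (t - 2)]
  | succ m ih =>
    intro l hl t
    simp only [← add_assoc, lists, List.mem_flatMap, List.mem_cons, List.not_mem_nil, or_false] at hl
    obtain ⟨l', hl', h⟩ := hl
    rcases h with rfl | rfl <;> rw [sel_cons] <;> linarith [ih l' hl' t]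

theorem eight_big : ∀ l ∈ lists 8, 702 < sel (tri l) 1 := by decide +kernel

/-- In dimension nine some point has more than 351 points orthogonal to it. -/
theorem exists_degree_nine {Q : QuadraticForm (ZMod 3) (Fin 9 → ZMod 3)}
    {w : Fin 9 → ZMod 3} {e : (Fin 9 → ZMod 3) ≃ₗ[ZMod 3] (Fin 9 → ZMod 3)}
    (hw : ∀ i, w i = 1 ∨ w i = 2) (he : ∀ x, Q x = ws w (e x)) :
    ∃ s : O3P Q, 351 < {t : O3P Q | t ≠ s ∧ o3R Q s t}.ncard := by
  classical
  -- a vector of value one and many vectors off its support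
  suffices h : ∃ v0, ws w v0 = 1 ∧ 702 < Nat.card {x : Fin 9 → ZMod 3 // ws w x = 1 ∧ ∀ i, v0 i * x i = 0} by
    obtain ⟨v0, hv0, hbig⟩ := h
    have hs : Q (e.symm v0) = 1 := by rw [he, LinearEquiv.apply_symm_apply, hv0]
    refine ⟨point hs, ?_⟩
    have hpol : ∀ a b : Fin 9 → ZMod 3, (∀ i, e a i * e b i = 0) →
        QuadraticMap.polar (⇑Q) a b = 0 := by
      intro a b hab
      rw [QuadraticMap.polar, he, he, he, map_add]
      simp only [ws, ← Finset.sum_sub_distrib]
      refine Finset.sum_eq_zero fun i _ => ?_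
      simp only [Pi.add_apply]
      linear_combination (2 * w i) * hab i
    have hsub : Nat.card {x : Fin 9 → ZMod 3 // ws w x = 1 ∧ ∀ i, v0 i * x i = 0} ≤
        Nat.card {v : {v : Fin 9 → ZMod 3 // Q v = 1} //
          point v.2 ≠ point hs ∧ o3R Q (point hs) (point v.2)} := by
      refine Nat.card_le_card_of_injective (fun x =>
        ⟨⟨e.symm x.1, by rw [he, LinearEquiv.apply_symm_apply, x.2.1]⟩, ?_, Or.inr ?_⟩) fun x y h =>
        Subtype.ext (e.symm.injective (congrArg (fun z => z.1.1) h))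
      · intro h
        obtain ⟨i, hi⟩ : ∃ i, v0 i ≠ 0 := by
          by_contra! hc
          rw [show ws w v0 = 0 by simp [ws, hc]] at hv0
          exact zero_ne_one hv0
        have hxi : x.1 i = 0 := (mul_eq_zero.1 (x.2.2 i)).resolve_left hi
        have h' : e.symm v0 ∈ ({e.symm x.1, -e.symm x.1} : Set (Fin 9 → ZMod 3)) :=
          (congrArg Subtype.val h).symm.subset (Set.mem_insert _ _)
        rcases h' with h' | h'
        · exact hi (by rw [e.symm.injective h', hxi])
        · rw [Set.mem_singleton_iff, ← map_neg] at h'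
          exact hi (by rw [e.symm.injective h', Pi.neg_apply, hxi, neg_zero])
      · rintro a ha b hb
        refine hpol a b fun i => ?_
        have ha' : e a = v0 ∨ e a = -v0 := by
          rcases ha with rfl | rfl
          · exact Or.inl (e.apply_symm_apply _)
          · exact Or.inr (by rw [map_neg, e.apply_symm_apply])
        have hb' : e b = x.1 ∨ e b = -x.1 := by
          rcases hb with rfl | rfl
          · exact Or.inl (e.apply_symm_apply _)
          · exact Or.inr (by rw [map_neg, e.apply_symm_apply])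
        rcases ha' with h | h <;> rcases hb' with h' | h' <;> simp [h, h', x.2.2 i]
    rw [← two_card_sub fun t => t ≠ point hs ∧ o3R Q (point hs) t] at hsub
    rw [← Nat.card_coe_set_eq, Set.coe_setOf]
    omega
  by_cases h1 : ∃ i, w i = 1
  · obtain ⟨i, hi⟩ := h1
    refine ⟨Pi.single i 1, ?_, ?_⟩
    · rw [ws, Finset.sum_eq_single i (fun j _ hj => by simp [hj]) (by simp)]
      simp [hi]
    · refine lt_of_lt_of_le ((eight_big _ (mem_lists (w := w ∘ i.succAbove) fun j => hw _)).trans_eq
        (card_ws _ _).symm) (Nat.card_le_card_of_injective (fun y => ⟨i.insertNth (0 : ZMod 3) y.1, ?_, fun j => ?_⟩)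
        fun y z h => Subtype.ext (funext fun k => by simpa using congrFun (congrArg Subtype.val h) (i.succAbove k)))
      · rw [ws, Fin.sum_univ_succAbove _ i]
        refine Eq.trans ?_ y.2
        simp [ws]
      · by_cases hj : j = i
        · subst hj; simp
        · simp [hj]
  · push Not at h1
    have h2 : w = fun _ => 2 := funext fun i => (hw i).resolve_left (h1 i)
    subst h2
    refine ⟨![1, 1, 0, 0, 0, 0, 0, 0, 0], by decide, lt_of_lt_of_le
      ((by decide +kernel : 702 < sel (tri (List.ofFn fun _ : Fin 7 => (2 : ZMod 3))) 1).trans_eq (card_ws _ _).symm)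
      (Nat.card_le_card_of_injective (fun y => ⟨Fin.cons 0 (Fin.cons 0 y.1), ?_, fun j => ?_⟩) fun y z h => ?_)⟩
    · rw [ws, Fin.sum_univ_succ, Fin.sum_univ_succ]
      refine Eq.trans ?_ y.2
      simp [ws]
    · fin_cases j <;> simp
    · refine Subtype.ext (funext fun k => ?_)
      have := congrFun (congrArg Subtype.val h) k.succ.succ
      simpa using this

end Cfsg.Agent.Fischer.Counts
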