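import Cfsg.Agent.Lib.Fischer.Graph.Core

/-!
Fischer's theorem: the model of the symmetric groups.
-/

set_option autoImplicit false
set_option linter.unusedSectionVars false

namespace Cfsg.Agent.Fischer.SymModel

open Equiv

variable {n : ℕ}

theorem exists_pair (s : SymP n) : ∃ p : Fin n × Fin n, p.1 ≠ p.2 ∧ s.1 = {p.1, p.2} := by
  obtain ⟨a, b, h, e⟩ := Finset.card_eq_two.1 s.2
  exact ⟨(a, b), h, e⟩

/-- The transposition of a pair. -/
noncomputable def tp (s : SymP n) : Perm (Fin n) :=
  swap (exists_pair s).choose.1 (exists_pair s).choose.2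

theorem tp_eq {s : SymP n} {a b : Fin n} (h : s.1 = {a, b}) : tp s = swap a b := by
  obtain ⟨hne, he⟩ := (exists_pair s).choose_spec
  rw [tp]
  generalize (exists_pair s).choose = p at hne he
  rw [h] at he
  have h1 : p.1 ∈ ({a, b} : Finset (Fin n)) := he ▸ Finset.mem_insert_self _ _
  have h2 : p.2 ∈ ({a, b} : Finset (Fin n)) :=
    he ▸ Finset.mem_insert_of_mem (Finset.mem_singleton_self _)
  simp only [Finset.mem_insert, Finset.mem_singleton] at h1 h2
  rcases h1 with h1 | h1 <;> rcases h2 with h2 | h2 <;> rw [h1, h2] <;>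
    first | exact swap_comm _ _ | exact absurd (h1.trans h2.symm) hne

theorem cases_pair (s : SymP n) : ∃ a b : Fin n, a ≠ b ∧ s.1 = {a, b} ∧ tp s = swap a b := by
  obtain ⟨p, h, e⟩ := exists_pair s
  exact ⟨p.1, p.2, h, e, tp_eq e⟩

theorem range_tp : Set.range (tp (n := n)) = {σ | σ.IsSwap} := by
  ext σ
  constructor
  · rintro ⟨s, rfl⟩
    obtain ⟨a, b, h, -, e⟩ := cases_pair s
    exact ⟨a, b, h, e⟩
  · rintro ⟨a, b, h, rfl⟩
    exact ⟨⟨{a, b}, Finset.card_pair h⟩, tp_eq rfl⟩

theorem tp_moves {s : SymP n} {x : Fin n} : tp s x ≠ x ↔ x ∈ s.1 := by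
  obtain ⟨a, b, h, e, et⟩ := cases_pair s
  rw [et, e, swap_apply_ne_self_iff]
  simp [h]

theorem tp_inj : Function.Injective (tp (n := n)) := fun s t h =>
  Subtype.ext (Finset.ext fun x => by rw [← tp_moves, ← tp_moves, h])

theorem conj_eq (g : Perm (Fin n)) (s : SymP n) :
    ∃ t : SymP n, tp t = g * tp s * g⁻¹ ∧ t.1 = s.1.map g.toEmbedding := by
  obtain ⟨a, b, h, e, et⟩ := cases_pair s
  refine ⟨⟨s.1.map g.toEmbedding, by rw [Finset.card_map, s.2]⟩, ?_, rfl⟩
  rw [et, tp_eq (a := g a) (b := g b) (by simp [e]), mul_assoc, ← mul_inv_eq_iff_eq_mul.2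
    (Equiv.mul_swap_eq_swap_mul g a b), mul_assoc]

theorem comm_iff (s t : SymP n) : Commute (tp s) (tp t) ↔ symR n s t := by
  constructor
  · intro h
    by_contra hc
    unfold symR at hc
    push Not at hc
    obtain ⟨hne, hd⟩ := hc
    obtain ⟨r, hr, hre⟩ := conj_eq (tp s) t
    have hrt : r = t := tp_inj (hr.trans (by rw [h.eq, mul_inv_cancel_right]))
    rw [hrt] at hre
    obtain ⟨a, b, hab, e, et⟩ := cases_pair s
    obtain ⟨x, hx, hx'⟩ := Finset.not_disjoint_iff.1 hd
    have key : ∀ z, z ∈ t.1 → tp s z ∈ t.1 := fun z hz => by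
      rw [hre]; exact Finset.mem_map_of_mem _ hz
    refine hne (Subtype.ext (Finset.eq_of_subset_of_card_le (fun z hz => ?_) (by rw [s.2, t.2])))
    rw [e, Finset.mem_insert, Finset.mem_singleton] at hx hz
    have k := key x hx'
    rw [et] at k
    rcases hx with rfl | rfl <;> rcases hz with rfl | rfl <;>
      first
      | exact hx'
      | (rwa [swap_apply_left] at k)
      | (rwa [swap_apply_right] at k)
  · rintro (rfl | h)
    · exact Commute.refl _
    · refine Equiv.Perm.Disjoint.commute fun x => ?_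
      by_contra hc
      push Not at hc
      exact Finset.disjoint_left.1 h (tp_moves.1 hc.1) (tp_moves.1 hc.2)

theorem grp (hn : 3 ≤ n) : Cfsg.IsThreeTranspositionGroup (Set.range (tp (n := n))) := by
  refine ⟨⟨?_, ?_⟩, fun g d hd => ?_, ?_⟩
  · rw [range_tp]
    rintro _ ⟨a, b, h, rfl⟩
    exact orderOf_eq_prime (by rw [pow_two, swap_mul_self]) fun e => h (swap_eq_one_iff.1 e)
  · rintro _ ⟨s, rfl⟩ _ ⟨t, rfl⟩
    obtain ⟨a, b, hab, e, et⟩ := cases_pair s
    obtain ⟨c, d, hcd, e', et'⟩ := cases_pair t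
    by_cases hR : symR n s t
    · refine Or.inl ?_
      rw [((comm_iff s t).2 hR).mul_pow, et, et', pow_two, swap_mul_self, one_mul, pow_two,
        swap_mul_self]
    · refine Or.inr ?_
      unfold symR at hR
      push Not at hR
      obtain ⟨x, hx, hx'⟩ := Finset.not_disjoint_iff.1 hR.2
      obtain ⟨y, hy⟩ := Finset.card_eq_one.1 (show (s.1.erase x).card = 1 by
        rw [Finset.card_erase_of_mem hx, s.2])
      obtain ⟨z, hz⟩ := Finset.card_eq_one.1 (show (t.1.erase x).card = 1 by
        rw [Finset.card_erase_of_mem hx', t.2])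
      have hyx : y ≠ x := Finset.ne_of_mem_erase (hy ▸ Finset.mem_singleton_self y)
      have hzx : z ≠ x := Finset.ne_of_mem_erase (hz ▸ Finset.mem_singleton_self z)
      have hse : s.1 = {x, y} := by rw [← Finset.insert_erase hx, hy]
      have hte : t.1 = {x, z} := by rw [← Finset.insert_erase hx', hz]
      have hyz : y ≠ z := fun k => hR.1 (Subtype.ext (by rw [hse, hte, k]))
      rw [tp_eq hse, tp_eq hte]
      have h3 := (Equiv.Perm.isThreeCycle_swap_mul_swap_same hyx.symm hzx.symm hyz).orderOf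
      rw [← h3]
      exact pow_orderOf_eq_one _
  · rw [range_tp] at hd ⊢
    obtain ⟨a, b, h, rfl⟩ := hd
    exact ⟨g a, g b, fun e => h (g.injective e), by
      rw [mul_inv_eq_iff_eq_mul]; exact Equiv.mul_swap_eq_swap_mul g a b⟩
  · rw [range_tp]; exact Equiv.Perm.closure_isSwap

theorem hull (hn : 5 ≤ n) : HullP (symR n) (tp (n := n)) := by
  intro s t w hst hsw htw hw
  unfold symR at hst hsw htw
  push Not at hst hsw htw
  obtain ⟨x, hx, hx'⟩ := Finset.not_disjoint_iff.1 hst.2
  obtain ⟨y, hy⟩ := Finset.card_eq_one.1 (show (s.1.erase x).card = 1 by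
    rw [Finset.card_erase_of_mem hx, s.2])
  obtain ⟨z, hz⟩ := Finset.card_eq_one.1 (show (t.1.erase x).card = 1 by
    rw [Finset.card_erase_of_mem hx', t.2])
  have hyx : y ≠ x := Finset.ne_of_mem_erase (hy ▸ Finset.mem_singleton_self y)
  have hzx : z ≠ x := Finset.ne_of_mem_erase (hz ▸ Finset.mem_singleton_self z)
  have hse : s.1 = {x, y} := by rw [← Finset.insert_erase hx, hy]
  have hte : t.1 = {x, z} := by rw [← Finset.insert_erase hx', hz]
  have hyz : y ≠ z := fun k => hst.1 (Subtype.ext (by rw [hse, hte, k]))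
  -- members of `w` lie among `x, y, z`
  have hin : ∀ a ∈ w.1, a = x ∨ a = y ∨ a = z := by
    intro a ha
    by_contra hc
    push Not at hc
    obtain ⟨hax, hay, haz⟩ := hc
    obtain ⟨b, hb⟩ : ∃ b : Fin n, b ∉ ({x, y, z, a} : Finset (Fin n)) := by
      by_contra! k
      have := Finset.card_le_card (s := Finset.univ) fun i _ => k i
      rw [Finset.card_univ, Fintype.card_fin] at this
      have := Finset.card_le_four (a := x) (b := y) (c := z) (d := a)
      omega
    simp only [Finset.mem_insert, Finset.mem_singleton, not_or] at hb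
    obtain ⟨hbx, hby, hbz, hba⟩ := hb
    obtain ⟨e, he⟩ : ∃ e : SymP n, e.1 = {a, b} :=
      ⟨⟨{a, b}, Finset.card_pair fun k => hba k.symm⟩, rfl⟩
    have hse' : Disjoint s.1 e.1 := by
      rw [hse, he]; simp [hax, hay, hbx, hby]
    have hte' : Disjoint t.1 e.1 := by
      rw [hte, he]; simp [hax, haz, hbx, hbz]
    rcases hw e (Or.inr hse') (Or.inr hte') with h | h
    · exact hsw.2 (h ▸ hse')
    · exact Finset.disjoint_left.1 h ha (by rw [he]; exact Finset.mem_insert_self _ _)
  have hxw : x ∉ w.1 := fun hxw => by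
    obtain ⟨c, hc⟩ := Finset.card_eq_one.1 (show (w.1.erase x).card = 1 by
      rw [Finset.card_erase_of_mem hxw, w.2])
    have hwe : w.1 = {x, c} := by rw [← Finset.insert_erase hxw, hc]
    have hcx : c ≠ x := Finset.ne_of_mem_erase (hc ▸ Finset.mem_singleton_self c)
    rcases (hin c (by rw [hwe]; exact Finset.mem_insert_of_mem (Finset.mem_singleton_self _))).resolve_left
      hcx with hcy | hcz
    · exact hsw.1 (Subtype.ext (by rw [hse, hwe, hcy]))
    · exact htw.1 (Subtype.ext (by rw [hte, hwe, hcz]))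
  have hwy : y ∈ w.1 ∧ z ∈ w.1 := by
    constructor
    · obtain ⟨c, hc, hc'⟩ := Finset.not_disjoint_iff.1 hsw.2
      rw [hse, Finset.mem_insert, Finset.mem_singleton] at hc
      rcases hc with rfl | rfl
      · exact absurd hc' hxw
      · exact hc'
    · obtain ⟨c, hc, hc'⟩ := Finset.not_disjoint_iff.1 htw.2
      rw [hte, Finset.mem_insert, Finset.mem_singleton] at hc
      rcases hc with rfl | rfl
      · exact absurd hc' hxw
      · exact hc'
  refine Or.inr (Or.inr ?_)
  have hwe : w.1 = {y, z} := (Finset.eq_of_subset_of_card_le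
    (Finset.insert_subset hwy.1 (Finset.singleton_subset_iff.2 hwy.2))
    (by rw [w.2, Finset.card_pair hyz])).symm
  rw [tp_eq hse, tp_eq hte, tp_eq hwe, swap_inv, Equiv.mul_swap_eq_swap_mul (swap x y) x z,
    swap_apply_left, swap_apply_of_ne_of_ne hzx hyz.symm, mul_assoc, swap_mul_self, mul_one]

theorem model (hn : 5 ≤ n) : Model (symR n) (tp (n := n)) where
  grp := grp (by omega)
  cent := by
    rw [eq_bot_iff]
    intro g hg
    rw [Subgroup.mem_bot]
    ext i
    by_contra hi
    have hi' : g i ≠ i := fun k => hi (by rw [k]; rfl)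
    obtain ⟨j, hj⟩ : ∃ j : Fin n, j ∉ ({i, g i} : Finset (Fin n)) := by
      by_contra! k
      have h1 := Finset.card_le_card (s := Finset.univ) fun x _ => k x
      rw [Finset.card_univ, Fintype.card_fin, Finset.card_pair (Ne.symm hi')] at h1
      omega
    simp only [Finset.mem_insert, Finset.mem_singleton, not_or] at hj
    have h1 := congrArg (fun f : Perm (Fin n) => f i) (Subgroup.mem_center_iff.1 hg (swap (g i) j))
    simp only [Perm.coe_mul, Function.comp_apply, swap_apply_left,
      swap_apply_of_ne_of_ne (Ne.symm hi') (Ne.symm hj.1)] at h1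
    exact hj.2 h1
  inj := tp_inj
  comm := comm_iff
  hull := hull hn

end Cfsg.Agent.Fischer.SymModel
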